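import Mathlib.GroupTheory.IsSubnormal
import Mathlib.GroupTheory.IsPerfect
import Mathlib.GroupTheory.GroupAction.ConjAct
import Mathlib.GroupTheory.Finiteness

/-!
Small general facts used throughout the component theory: characteristic subgroups of
normalised subgroups, subnormality transport, commutator/three subgroups corollaries.
-/

namespace Cfsg.Agent.Components

open Subgroup

variable {G G' : Type*} [Group G] [Group G']

/-- An element normalising `H` normalises every characteristic subgroup of `H`. -/
theorem normalizer_le_normalizer_map_of_characteristic (H : Subgroup G) (C : Subgroup H)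
    [hC : C.Characteristic] :
    normalizer (H : Set G) ≤ normalizer ((C.map H.subtype : Subgroup G) : Set G) := by
  rw [le_normalizer_iff]
  rintro g hg _ ⟨x, hx, rfl⟩
  let N := normalizer (H : Set G)
  let e : H ≃* H := ((subgroupOfEquivOfLe le_normalizer).symm.trans
    (MulAut.conjNormal (H := H.subgroupOf N) ⟨g, hg⟩)).trans (subgroupOfEquivOfLe le_normalizer)
  have := (characteristic_iff_comap_eq.mp hC e)
  have hx' : e x ∈ C := by rw [← this] at hx; exact hx
  exact ⟨e x, hx', rfl⟩

/-- A characteristic subgroup of a subgroup normal in `K` is normal in `K`. -/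
theorem map_char_normal_subgroupOf {H K : Subgroup G} (hle : H ≤ K) (hN : (H.subgroupOf K).Normal)
    (C : Subgroup H) [C.Characteristic] : ((C.map H.subtype).subgroupOf K).Normal :=
  normal_subgroupOf_of_le_normalizer <|
    ((normal_subgroupOf_iff_le_normalizer hle).mp hN).trans
      (normalizer_le_normalizer_map_of_characteristic H C)

/-- A normal subgroup of a subnormal subgroup is subnormal. -/
theorem isSubnormal_of_normalized {M K : Subgroup G} (hK : K.IsSubnormal) (hle : M ≤ K)
    (hn : K ≤ normalizer (M : Set G)) : M.IsSubnormal :=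
  IsSubnormal.step M K hle hK (normal_subgroupOf_of_le_normalizer hn)

/-- The derived subgroup of a subnormal subgroup is subnormal. -/
theorem isSubnormal_commutator_self {K : Subgroup G} (hK : K.IsSubnormal) :
    (⁅K, K⁆).IsSubnormal :=
  isSubnormal_of_normalized hK K.commutator_le_self (normalizer_commutator_ge_left K K)

theorem isSubnormal_map_subtype {N : Subgroup G} (hN : N.IsSubnormal) {H : Subgroup N}
    (hH : H.IsSubnormal) : (H.map N.subtype).IsSubnormal :=
  hH.trans' hN

theorem isSubnormal_map_equiv {H : Subgroup G} (hH : H.IsSubnormal) (e : G ≃* G') :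
    (H.map e.toMonoidHom).IsSubnormal :=
  hH.map e.surjective

/-- If `⁅⁅M, K⁆, K⁆ = ⊥` and `K` is perfect then `M` centralises `K`. -/
theorem commutator_eq_bot_of_commutator_commutator {K M : Subgroup G} (hK : Group.IsPerfect K)
    (h : ⁅⁅M, K⁆, K⁆ = ⊥) : ⁅K, M⁆ = ⊥ := by
  have h' : ⁅⁅K, M⁆, K⁆ = ⊥ := by rwa [commutator_comm K M]
  have := commutator_commutator_eq_bot_of_rotate (H₁ := K) (H₂ := K) (H₃ := M) h' h
  rwa [K.commutator_eq_self] at this

theorem le_centralizer_of_commutator_eq_bot {H K : Subgroup G} (h : ⁅H, K⁆ = ⊥) :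
    H ≤ centralizer (K : Set G) :=
  commutator_eq_bot_iff_le_centralizer.mp h

theorem commutator_eq_bot_symm {H K : Subgroup G} (h : ⁅H, K⁆ = ⊥) : ⁅K, H⁆ = ⊥ := by
  rwa [commutator_comm]

/-- `H` centralises a join as soon as it centralises every generator. -/
theorem commutator_sSup_eq_bot {H : Subgroup G} {S : Set (Subgroup G)}
    (h : ∀ K ∈ S, ⁅H, K⁆ = ⊥) : ⁅H, sSup S⁆ = ⊥ := by
  apply commutator_eq_bot_symm
  rw [commutator_eq_bot_iff_le_centralizer]
  exact sSup_le fun K hK => le_centralizer_of_commutator_eq_bot (commutator_eq_bot_symm (h K hK))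

theorem commutator_sup_eq_bot {H A B : Subgroup G} (hA : ⁅H, A⁆ = ⊥) (hB : ⁅H, B⁆ = ⊥) :
    ⁅H, A ⊔ B⁆ = ⊥ := by
  apply commutator_eq_bot_symm
  rw [commutator_eq_bot_iff_le_centralizer]
  exact sup_le (le_centralizer_of_commutator_eq_bot (commutator_eq_bot_symm hA))
    (le_centralizer_of_commutator_eq_bot (commutator_eq_bot_symm hB))

/-- A perfect subgroup is contained in no subgroup that centralises it, unless trivial. -/
theorem eq_bot_of_perfect_of_commutator {K : Subgroup G} (hK : Group.IsPerfect K)
    (h : ⁅K, K⁆ = ⊥) : K = ⊥ := by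
  rwa [K.commutator_eq_self] at h

end Cfsg.Agent.Components
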