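import Cfsg.Agent.Lib.Components.Subnormal
import Cfsg.Prelude.Def_Solvable
import Mathlib.GroupTheory.NoncommPiCoprod
import Mathlib.GroupTheory.Nilpotent

/-!
The Fitting subgroup `Cfsg.fittingSubgroup`: normal, characteristic, nilpotent for finite groups,
contains every subnormal nilpotent subgroup, and contains its centraliser in solvable groups.
-/

namespace Cfsg.Agent.Components

open Subgroup

variable {G G' : Type*} [Group G] [Group G']

theorem le_fittingSubgroup {N : Subgroup G} (hn : N.Normal) [Group.IsNilpotent N] :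
    N ≤ fittingSubgroup G := le_sSup ⟨hn, inferInstance⟩

instance fittingSubgroup_normal (G : Type*) [Group G] : (fittingSubgroup G).Normal :=
  sSup_normal _ fun _ h => h.1

theorem map_fittingSubgroup_le {f : G →* G'} (hf : Function.Surjective f) :
    (fittingSubgroup G).map f ≤ fittingSubgroup G' := by
  rw [map_le_iff_le_comap]
  refine sSup_le fun N hN => map_le_iff_le_comap.mp ?_
  have := hN.2
  have : Group.IsNilpotent (N.map f) :=
    Group.nilpotent_of_surjective _ (f.subgroupMap_surjective N)
  exact le_fittingSubgroup (hN.1.map f hf)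

theorem map_fittingSubgroup (e : G ≃* G') :
    (fittingSubgroup G).map e.toMonoidHom = fittingSubgroup G' := by
  refine le_antisymm (map_fittingSubgroup_le e.surjective) fun x hx => ?_
  exact ⟨e.symm x, map_fittingSubgroup_le (f := e.symm.toMonoidHom) e.symm.surjective
    (mem_map_of_mem _ hx), e.apply_symm_apply x⟩

instance fittingSubgroup_characteristic (G : Type*) [Group G] :
    (fittingSubgroup G).Characteristic :=
  characteristic_iff_map_le.mpr fun e => map_fittingSubgroup_le e.surjective

/-- The join of a set of normal `p`-subgroups is a `p`-group. -/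
theorem isPGroup_sSup_of_normal [Finite G] (p : ℕ) (S : Set (Subgroup G))
    (hS : ∀ N ∈ S, N.Normal ∧ IsPGroup p N) : IsPGroup p ↥(sSup S) := by
  induction S, S.toFinite using Set.Finite.induction_on with
  | empty => rw [sSup_empty]; exact IsPGroup.of_bot
  | @insert a s _ _ ih =>
    rw [sSup_insert]
    have := (hS a (Set.mem_insert _ _)).1
    exact IsPGroup.to_sup_of_normal_left (hS a (Set.mem_insert _ _)).2
      (ih fun N hN => hS N (Set.mem_insert_of_mem _ hN))

theorem isPGroup_pCore' [Finite G] (p : ℕ) : IsPGroup p (pCore p G) :=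
  isPGroup_sSup_of_normal p _ fun _ h => h

theorem pCore_normal' (p : ℕ) : (pCore p G).Normal := sSup_normal _ fun _ h => h.1

theorem pCore_le_fittingSubgroup [Finite G] {p : ℕ} (hp : p.Prime) :
    pCore p G ≤ fittingSubgroup G := by
  have := Fact.mk hp
  have := (isPGroup_pCore' (G := G) p).isNilpotent
  exact le_fittingSubgroup (pCore_normal' p)

/-- A subgroup containing a Sylow subgroup for every prime is the whole group. -/
theorem eq_top_of_forall_sylow [Finite G] {X : Subgroup G}
    (h : ∀ p : ℕ, p.Prime → p ∣ Nat.card G → ∃ P : Sylow p G, (P : Subgroup G) ≤ X) : X = ⊤ := by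
  refine X.eq_top_of_card_eq (Nat.dvd_antisymm X.card_subgroup_dvd_card ?_)
  refine (Nat.dvd_iff_prime_pow_dvd_dvd (Nat.card X) (Nat.card G)).mpr fun p k hp hk => ?_
  rcases Nat.eq_zero_or_pos k with rfl | hk0
  · simp
  have := Fact.mk hp
  obtain ⟨P, hP⟩ := h p hp ((dvd_pow_self p hk0.ne').trans hk)
  refine dvd_trans ?_ (card_dvd_of_le hP)
  rw [P.card_eq_multiplicity]
  exact Nat.pow_dvd_pow p ((hp.pow_dvd_iff_le_factorization Nat.card_pos.ne').mp hk)

/-- A nilpotent normal subgroup lies in the join of the cores `O_p(G)`, `p ∣ |G|`. -/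
theorem le_iSup_pCore_of_isNilpotent [Finite G] {N : Subgroup G} (hn : N.Normal)
    [Group.IsNilpotent N] : N ≤ ⨆ p : (Nat.card G).primeFactors, pCore (p : ℕ) G := by
  set X := ⨆ p : (Nat.card G).primeFactors, pCore (p : ℕ) G
  suffices h : X.subgroupOf N = ⊤ from subgroupOf_eq_top.mp h
  refine eq_top_of_forall_sylow fun p hp hdvd => ?_
  have := Fact.mk hp
  let P : Sylow p N := default
  have hc : (P : Subgroup N).Characteristic := P.characteristic_of_normal inferInstance
  refine ⟨P, map_le_iff_le_comap.mp ?_⟩
  refine le_trans ?_ (le_iSup (fun p : (Nat.card G).primeFactors => pCore (p : ℕ) G)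
    ⟨p, Nat.mem_primeFactors.mpr ⟨hp, hdvd.trans N.card_subgroup_dvd_card, Nat.card_pos.ne'⟩⟩)
  exact le_sSup ⟨ConjAct.normal_of_characteristic_of_normal, P.isPGroup'.map N.subtype⟩

/-- The join of the cores `O_p(G)` over the prime divisors of `|G|` is nilpotent. -/
theorem isNilpotent_iSup_pCore [Finite G] :
    Group.IsNilpotent ↥(⨆ p : (Nat.card G).primeFactors, pCore (p : ℕ) G) := by
  let H : (Nat.card G).primeFactors → Subgroup G := fun p => pCore (p : ℕ) G
  have hfact : ∀ p : (Nat.card G).primeFactors, Fact (Nat.Prime (p : ℕ)) :=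
    fun p => ⟨Nat.prime_of_mem_primeFactors p.2⟩
  have hnil : ∀ p, Group.IsNilpotent (H p) := fun p => (isPGroup_pCore' (G := G) _).isNilpotent
  have hcomm : Pairwise fun i j => ∀ x y : G, x ∈ H i → y ∈ H j → Commute x y := fun i j hij =>
    commute_of_normal_of_disjoint _ _ (pCore_normal' _) (pCore_normal' _)
      (IsPGroup.disjoint_of_ne _ _ (fun h => hij (Subtype.ext h)) _ _ (isPGroup_pCore' _)
        (isPGroup_pCore' _))
  have hr := noncommPiCoprod_range (H := H) (hcomm := hcomm)
  have : Group.IsNilpotent (noncommPiCoprod hcomm).range :=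
    Group.nilpotent_of_surjective _ (MonoidHom.rangeRestrict_surjective _)
  rwa [hr] at this

theorem fittingSubgroup_eq_iSup_pCore [Finite G] :
    fittingSubgroup G = ⨆ p : (Nat.card G).primeFactors, pCore (p : ℕ) G := by
  refine le_antisymm (sSup_le fun N hN => ?_)
    (iSup_le fun p => pCore_le_fittingSubgroup (Nat.prime_of_mem_primeFactors p.2))
  have := hN.2
  exact le_iSup_pCore_of_isNilpotent hN.1

/-- **Fitting's theorem**: the Fitting subgroup of a finite group is nilpotent. -/
instance fittingSubgroup_isNilpotent (G : Type*) [Group G] [Finite G] :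
    Group.IsNilpotent (fittingSubgroup G) := by
  rw [fittingSubgroup_eq_iSup_pCore]
  exact isNilpotent_iSup_pCore

/-- A finite group is nilpotent iff it equals its Fitting subgroup. -/
theorem fittingSubgroup_eq_top_iff [Finite G] :
    fittingSubgroup G = ⊤ ↔ Group.IsNilpotent G := by
  constructor
  · intro h
    have := fittingSubgroup_isNilpotent G
    rw [h] at this
    exact Group.isNilpotent_top.mp this
  · intro h
    exact top_le_iff.mp (le_fittingSubgroup inferInstance)

theorem map_subtype_fittingSubgroup_le_of_isSubnormal [Finite G] {H : Subgroup G}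
    (hH : H.IsSubnormal) : (fittingSubgroup H).map H.subtype ≤ fittingSubgroup G := by
  induction hH with
  | top =>
    rw [map_le_iff_le_comap]
    intro x hx
    exact map_fittingSubgroup_le (f := topEquiv.toMonoidHom) topEquiv.surjective
      (mem_map_of_mem _ hx)
  | step H K hle hK hN ih =>
    have hC := map_char_normal_subgroupOf hle hN (fittingSubgroup H)
    have hle' : (fittingSubgroup H).map H.subtype ≤ K := (map_subtype_le _).trans hle
    have : Group.IsNilpotent ((fittingSubgroup H).map H.subtype) :=
      Group.nilpotent_of_surjective _ (H.subtype.subgroupMap_surjective _)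
    have : Group.IsNilpotent (((fittingSubgroup H).map H.subtype).subgroupOf K) :=
      (Group.isNilpotent_congr (subgroupOfEquivOfLe hle')).mpr this
    rw [← map_subgroupOf_eq_of_le hle']
    exact (map_mono (le_fittingSubgroup hC)).trans ih

/-- Every subnormal nilpotent subgroup lies in the Fitting subgroup. -/
theorem le_fittingSubgroup_of_isSubnormal [Finite G] {H : Subgroup G} (hH : H.IsSubnormal)
    [Group.IsNilpotent H] : H ≤ fittingSubgroup G := by
  refine le_trans ?_ (map_subtype_fittingSubgroup_le_of_isSubnormal hH)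
  rw [fittingSubgroup_eq_top_iff.mpr inferInstance, ← MonoidHom.range_eq_map, range_subtype]

theorem fittingSubgroup_subgroupOf_of_normal [Finite G] (N : Subgroup G) [hN : N.Normal] :
    fittingSubgroup N = (fittingSubgroup G).subgroupOf N := by
  refine le_antisymm (map_le_iff_le_comap.mp
    (map_subtype_fittingSubgroup_le_of_isSubnormal hN.isSubnormal)) ?_
  have : Group.IsNilpotent ((fittingSubgroup G).subgroupOf N) := by
    rw [← inf_subgroupOf_right]
    exact (Group.isNilpotent_congr (subgroupOfEquivOfLe inf_le_right)).mpr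
      ((Group.isNilpotent_congr (subgroupOfEquivOfLe inf_le_left)).mp (Subgroup.isNilpotent _))
  exact le_fittingSubgroup (normal_subgroupOf_of_le_normalizer
    (normalizer_eq_top (H := fittingSubgroup G) ▸ le_top))

/-- A subgroup `N` with `⁅⁅N, N⁆, N⁆ = ⊥` is nilpotent. -/
theorem isNilpotent_of_commutator_commutator {N : Subgroup G} (h : ⁅⁅N, N⁆, N⁆ = ⊥) :
    Group.IsNilpotent N :=
  isNilpotent_of_lowerCentralSeries_eq_bot (n := 2)
    (by rwa [Subgroup.lowerCentralSeries_succ, Subgroup.lowerCentralSeries_succ, Subgroup.lowerCentralSeries_zero])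

/-- In a solvable group the Fitting subgroup contains its centraliser. -/
theorem centralizer_fittingSubgroup_le [Group.IsSolvable G] :
    centralizer (fittingSubgroup G : Set G) ≤ fittingSubgroup G := by
  set F := fittingSubgroup G
  set C := centralizer (F : Set G)
  by_contra hC
  classical
  obtain ⟨n, hn⟩ := (inferInstance : Group.IsSolvable G).solvable
  have hex : ∃ i, C ⊓ derivedSeries G i ≤ F := ⟨n, by rw [hn]; simp⟩
  have h0 : ¬ C ⊓ derivedSeries G 0 ≤ F := by simpa using hC
  obtain ⟨i, hi, hnot⟩ : ∃ i, C ⊓ derivedSeries G (i + 1) ≤ F ∧ ¬ C ⊓ derivedSeries G i ≤ F := by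
    rcases Nat.exists_eq_succ_of_ne_zero (fun h : Nat.find hex = 0 => h0 (h ▸ Nat.find_spec hex))
      with ⟨i, hi⟩
    exact ⟨i, (show i + 1 = Nat.find hex from hi.symm) ▸ Nat.find_spec hex,
      Nat.find_min hex (hi.symm ▸ Nat.lt_succ_self i)⟩
  have : Group.IsNilpotent ↥(C ⊓ derivedSeries G i) := by
    refine isNilpotent_of_commutator_commutator (le_bot_iff.mp ?_)
    have h1 : ⁅C ⊓ derivedSeries G i, C ⊓ derivedSeries G i⁆ ≤ F :=
      le_trans (le_inf ((commutator_mono inf_le_left inf_le_left).trans C.commutator_le_self)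
        (commutator_mono inf_le_right inf_le_right)) hi
    refine (commutator_mono h1 inf_le_left).trans (le_of_eq ?_)
    rw [commutator_comm, commutator_eq_bot_iff_le_centralizer]
  exact hnot (le_fittingSubgroup inferInstance)

theorem centralizer_fittingSubgroup_eq [Group.IsSolvable G] :
    centralizer (fittingSubgroup G : Set G) = (center (fittingSubgroup G)).map
      (fittingSubgroup G).subtype := by
  refine le_antisymm (fun x hx => ?_) ?_
  · exact ⟨⟨x, centralizer_fittingSubgroup_le hx⟩,
      mem_center_iff.mpr fun y => Subtype.ext (mem_centralizer_iff.mp hx y y.2), rfl⟩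
  · rintro _ ⟨z, hz, rfl⟩
    exact mem_centralizer_iff.mpr fun y hy => congrArg Subtype.val (mem_center_iff.mp hz ⟨y, hy⟩)

theorem fittingSubgroup_ne_bot [Group.IsSolvable G] [Nontrivial G] : fittingSubgroup G ≠ ⊥ := by
  intro h
  have := centralizer_fittingSubgroup_le (G := G)
  rw [h] at this
  obtain ⟨x, hx⟩ := exists_ne (1 : G)
  exact hx (mem_bot.mp (this (mem_centralizer_iff.mpr fun y hy => by
    rw [mem_bot.mp hy, one_mul, mul_one])))

end Cfsg.Agent.Components
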