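import Cfsg.Agent.Lib.Components.Quasisimple
import Cfsg.Prelude.Def_Local

/-!
Components and the layer: a component either lies in a given subnormal subgroup or centralises it;
distinct components commute; the layer is characteristic and perfect.
-/

namespace Cfsg.Agent.Components

open Subgroup

variable {G G' : Type*} [Group G] [Group G']

theorem IsComponent.isSubnormal {K : Subgroup G} (h : IsComponent K) : K.IsSubnormal := h.1

theorem IsComponent.isQuasisimple {K : Subgroup G} (h : IsComponent K) : IsQuasisimple K := h.2

theorem IsComponent.ne_bot {K : Subgroup G} (h : IsComponent K) : K ≠ ⊥ :=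
  IsQuasisimple.ne_bot h.2

theorem IsComponent.commutator_self {K : Subgroup G} (h : IsComponent K) : ⁅K, K⁆ = K :=
  IsQuasisimple.commutator_self h.2

theorem IsComponent.not_isSolvable {K : Subgroup G} (h : IsComponent K) :
    ¬ Group.IsSolvable K := IsQuasisimple.not_isSolvable h.2

theorem IsComponent.hasComponent {K : Subgroup G} (h : IsComponent K) : HasComponent G := ⟨K, h⟩

/-- A component either lies in a given normal subgroup or centralises it. -/
theorem IsComponent.le_or_commutator_eq_bot_of_normal {K : Subgroup G} (hK : IsComponent K)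
    (N : Subgroup G) [N.Normal] : K ≤ N ∨ ⁅K, N⁆ = ⊥ := by
  obtain ⟨n, f, hf, hnorm, h0, hn⟩ := IsSubnormal.exists_chain hK.1
  have key : ∀ i, ∀ M : Subgroup G, M ≤ f i → f i ≤ normalizer (M : Set G) →
      K ≤ M ∨ ⁅K, M⁆ = ⊥ := by
    intro i
    induction i with
    | zero =>
      intro M hle hM
      rw [h0] at hle hM
      exact (IsQuasisimple.eq_or_commutator_eq_bot hK.2 hle hM).imp (fun h => h.ge) id
    | succ i ih =>
      intro M hle hM
      have hL : f (i + 1) ≤ normalizer (f i : Set G) :=
        (normal_subgroupOf_iff_le_normalizer (hf (Nat.le_succ i))).mp (hnorm i)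
      have hKi : K ≤ f i := h0 ▸ hf (Nat.zero_le i)
      have hle' : f i ≤ f (i + 1) := hf (Nat.le_succ i)
      rcases ih (M ⊓ f i) inf_le_right ((le_inf (hle'.trans hM) le_normalizer).trans
          inf_normalizer_le_normalizer_inf) with h | h
      · exact Or.inl (h.trans inf_le_left)
      · right
        refine commutator_eq_bot_of_commutator_commutator hK.2.1 ?_
        rw [eq_bot_iff, ← commutator_eq_bot_symm h]
        refine commutator_mono (le_inf ?_ ?_) le_rfl
        · exact le_normalizer_iff_commutator_le_left.mp ((hKi.trans hle').trans hM)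
        · exact (commutator_mono le_rfl hKi).trans
            (le_normalizer_iff_commutator_le_right.mp (hle.trans hL))
  exact key n N (hn ▸ le_top) (hn ▸ normalizer_eq_top (H := N) ▸ le_rfl)

/-- A component of `G` lying in `H` is a component of `H`. -/
theorem IsComponent.subgroupOf_of_le {K H : Subgroup G} (hK : IsComponent K) (hle : K ≤ H) :
    IsComponent (K.subgroupOf H) :=
  ⟨hK.1.subgroupOf, IsQuasisimple.subgroupOf_of_le hK.2 hle⟩

/-- A component of a subnormal subgroup is a component of the group. -/
theorem IsComponent.map_subtype_of_isSubnormal {H : Subgroup G} (hH : H.IsSubnormal) {K : Subgroup H}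
    (hK : IsComponent K) : IsComponent (K.map H.subtype) :=
  ⟨hK.1.trans' hH, IsQuasisimple.map_injective hK.2 H.subtype_injective⟩

/-- A component either lies in a given subnormal subgroup or centralises it. -/
theorem IsComponent.le_or_commutator_eq_bot {K U : Subgroup G} (hK : IsComponent K)
    (hU : U.IsSubnormal) : K ≤ U ∨ ⁅K, U⁆ = ⊥ := by
  induction hU with
  | top => exact Or.inl le_top
  | step U V hle hV hN ih =>
    rcases ih with h | h
    · rcases IsComponent.le_or_commutator_eq_bot_of_normal (IsComponent.subgroupOf_of_le hK h)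
        (U.subgroupOf V) with h' | h'
      · left
        have := map_mono (f := V.subtype) h'
        rwa [map_subgroupOf_eq_of_le h, map_subgroupOf_eq_of_le hle] at this
      · right
        have := congrArg (Subgroup.map V.subtype) h'
        rwa [map_commutator, Subgroup.map_bot, map_subgroupOf_eq_of_le h,
          map_subgroupOf_eq_of_le hle] at this
    · exact Or.inr (eq_bot_iff.mpr ((commutator_mono le_rfl hle).trans h.le))

theorem IsComponent.eq_of_le {K L : Subgroup G} (hK : IsComponent K) (hL : IsComponent L)
    (h : K ≤ L) : K = L := by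
  refine (IsQuasisimple.eq_or_commutator_eq_bot_of_subnormal hL.2 h hK.1.subgroupOf).resolve_right
    fun hc => IsComponent.ne_bot hK (eq_bot_iff.mpr ?_)
  calc K = ⁅K, K⁆ := (IsComponent.commutator_self hK).symm
    _ ≤ ⁅L, K⁆ := commutator_mono h le_rfl
    _ = ⊥ := hc

/-- Distinct components commute. -/
theorem IsComponent.commutator_eq_bot {K L : Subgroup G} (hK : IsComponent K) (hL : IsComponent L)
    (hne : K ≠ L) : ⁅K, L⁆ = ⊥ :=
  (IsComponent.le_or_commutator_eq_bot hK hL.1).resolve_left
    fun h => hne (IsComponent.eq_of_le hK hL h)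

theorem IsComponent.le_normalizer {K L : Subgroup G} (hK : IsComponent K) (hL : IsComponent L) :
    K ≤ normalizer (L : Set G) := by
  by_cases h : K = L
  · subst h; exact Subgroup.le_normalizer
  · exact (le_centralizer_of_commutator_eq_bot (IsComponent.commutator_eq_bot hK hL h)).trans
      (centralizer_le_normalizer _)

/-- A component centralises every solvable subnormal subgroup. -/
theorem IsComponent.commutator_eq_bot_of_isSolvable {K U : Subgroup G} (hK : IsComponent K)
    (hU : U.IsSubnormal) [Group.IsSolvable U] : ⁅K, U⁆ = ⊥ :=
  (IsComponent.le_or_commutator_eq_bot hK hU).resolve_left fun h =>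
    IsComponent.not_isSolvable hK (Group.isSolvable_of_isSolvable_injective (f := inclusion h) (inclusion_injective h))

theorem IsComponent.map_of_surjective {K : Subgroup G} (hK : IsComponent K) {f : G →* G'}
    (hf : Function.Surjective f) (hne : K.map f ≠ ⊥) : IsComponent (K.map f) :=
  ⟨hK.1.map hf, IsQuasisimple.map_of_ne_bot hK.2 hne⟩

theorem IsComponent.map_equiv {K : Subgroup G} (hK : IsComponent K) (e : G ≃* G') :
    IsComponent (K.map e.toMonoidHom) :=
  ⟨hK.1.map e.surjective, IsQuasisimple.map_injective hK.2 e.injective⟩

theorem IsComponent.conj {K : Subgroup G} (hK : IsComponent K) (g : G) :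
    IsComponent (K.map (MulAut.conj g).toMonoidHom) :=
  IsComponent.map_equiv hK (MulAut.conj g)

/-! ### The layer -/

theorem IsComponent.le_layer {K : Subgroup G} (hK : IsComponent K) : K ≤ layer G := le_sSup hK

theorem map_layer_le (e : G ≃* G') : (layer G).map e.toMonoidHom ≤ layer G' := by
  rw [map_le_iff_le_comap]
  exact sSup_le fun K hK => map_le_iff_le_comap.mp (IsComponent.le_layer (IsComponent.map_equiv hK e))

theorem map_layer (e : G ≃* G') : (layer G).map e.toMonoidHom = layer G' := by
  refine le_antisymm (map_layer_le e) ?_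
  intro x hx
  exact ⟨e.symm x, map_layer_le e.symm (mem_map_of_mem _ hx), e.apply_symm_apply x⟩

instance layer_characteristic (G : Type*) [Group G] : (layer G).Characteristic :=
  characteristic_iff_map_le.mpr fun e => map_layer_le e

theorem layer_eq_bot_iff : layer G = ⊥ ↔ ¬ HasComponent G := by
  constructor
  · rintro h ⟨K, hK⟩
    exact IsComponent.ne_bot hK (le_bot_iff.mp (h ▸ IsComponent.le_layer hK))
  · exact fun h => le_bot_iff.mp (sSup_le fun K hK => absurd ⟨K, hK⟩ h)

theorem commutator_layer_self : ⁅layer G, layer G⁆ = layer G := by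
  refine le_antisymm (layer G).commutator_le_self (sSup_le fun K hK => ?_)
  calc K = ⁅K, K⁆ := (IsComponent.commutator_self hK).symm
    _ ≤ _ := commutator_mono (IsComponent.le_layer hK) (IsComponent.le_layer hK)

instance layer_isPerfect (G : Type*) [Group G] : Group.IsPerfect (layer G) :=
  isPerfect_iff.mpr commutator_layer_self

/-- The layer centralises every solvable subnormal subgroup. -/
theorem commutator_layer_eq_bot_of_isSolvable {U : Subgroup G} (hU : U.IsSubnormal)
    [Group.IsSolvable U] : ⁅layer G, U⁆ = ⊥ :=
  commutator_eq_bot_symm <| commutator_sSup_eq_bot fun _ hK =>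
    commutator_eq_bot_symm (IsComponent.commutator_eq_bot_of_isSolvable hK hU)

/-- Every component is normal in the layer. -/
theorem IsComponent.normal_subgroupOf_layer {K : Subgroup G} (hK : IsComponent K) :
    (K.subgroupOf (layer G)).Normal :=
  normal_subgroupOf_of_le_normalizer (sSup_le fun _ hL => IsComponent.le_normalizer hL hK)

/-- A component contained in a join of subnormal subgroups is contained in one of them. -/
theorem IsComponent.exists_le_of_le_sSup {K : Subgroup G} (hK : IsComponent K)
    {S : Set (Subgroup G)} (hS : ∀ U ∈ S, U.IsSubnormal) (h : K ≤ sSup S) :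
    ∃ U ∈ S, K ≤ U := by
  by_contra hc
  push Not at hc
  refine IsComponent.ne_bot hK (eq_bot_iff.mpr ?_)
  calc K = ⁅K, K⁆ := (IsComponent.commutator_self hK).symm
    _ ≤ ⁅K, sSup S⁆ := commutator_mono le_rfl h
    _ = ⊥ := commutator_sSup_eq_bot fun U hU =>
      (IsComponent.le_or_commutator_eq_bot hK (hS U hU)).resolve_left (hc U hU)

/-- A component in the layer of a subnormal subgroup is one of its components. -/
theorem map_layer_le_layer {H : Subgroup G} (hH : H.IsSubnormal) :
    (layer H).map H.subtype ≤ layer G := by
  rw [map_le_iff_le_comap]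
  exact sSup_le fun K hK =>
    map_le_iff_le_comap.mp (IsComponent.le_layer (IsComponent.map_subtype_of_isSubnormal hH hK))

theorem layer_le_map_layer_of_le {H : Subgroup G} (h : layer G ≤ H) :
    layer G ≤ (layer H).map H.subtype := by
  refine sSup_le fun K hK => ?_
  have hle : K ≤ H := (IsComponent.le_layer hK).trans h
  rw [← map_subgroupOf_eq_of_le hle]
  exact map_mono (IsComponent.le_layer (IsComponent.subgroupOf_of_le hK hle))

end Cfsg.Agent.Components
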