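import Cfsg.Agent.Lib.Components.Fitting
import Cfsg.Agent.Lib.Components.Layer

/-!
The generalized Fitting subgroup: characteristic, and contains its centraliser in a finite group.
-/

namespace Cfsg.Agent.Components

open Subgroup

variable {G G' : Type*} [Group G] [Group G']

theorem layer_le_generalizedFittingSubgroup : layer G ≤ generalizedFittingSubgroup G := le_sup_left

theorem fittingSubgroup_le_generalizedFittingSubgroup :
    fittingSubgroup G ≤ generalizedFittingSubgroup G := le_sup_right

theorem map_generalizedFittingSubgroup (e : G ≃* G') :
    (generalizedFittingSubgroup G).map e.toMonoidHom = generalizedFittingSubgroup G' := by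
  rw [generalizedFittingSubgroup, Subgroup.map_sup, map_layer, map_fittingSubgroup]; rfl

instance generalizedFittingSubgroup_normal (G : Type*) [Group G] :
    (generalizedFittingSubgroup G).Normal :=
  inferInstanceAs (layer G ⊔ fittingSubgroup G).Normal

instance generalizedFittingSubgroup_characteristic (G : Type*) [Group G] :
    (generalizedFittingSubgroup G).Characteristic :=
  characteristic_iff_map_le.mpr fun e => (map_generalizedFittingSubgroup e).le

/-- The layer and the Fitting subgroup commute elementwise. -/
theorem commutator_layer_fittingSubgroup [Finite G] : ⁅layer G, fittingSubgroup G⁆ = ⊥ :=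
  commutator_layer_eq_bot_of_isSolvable (fittingSubgroup_normal G).isSubnormal

theorem IsComponent.commutator_fittingSubgroup [Finite G] {K : Subgroup G} (hK : IsComponent K) :
    ⁅K, fittingSubgroup G⁆ = ⊥ :=
  IsComponent.commutator_eq_bot_of_isSolvable hK (fittingSubgroup_normal G).isSubnormal

/-- A nontrivial subnormal subgroup all of whose proper normal subgroups it centralises is
either nilpotent or a component. -/
theorem isNilpotent_or_isComponent {K : Subgroup G} (hK : K.IsSubnormal) (hne : K ≠ ⊥)
    (h : ∀ M : Subgroup G, M < K → K ≤ normalizer (M : Set G) → ⁅M, K⁆ = ⊥) :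
    Group.IsNilpotent K ∨ IsComponent K := by
  rcases K.commutator_le_self.lt_or_eq with hlt | heq
  · exact Or.inl (isNilpotent_of_commutator_commutator
      (h _ hlt (normalizer_commutator_ge_left K K)))
  · refine Or.inr ⟨hK, ?_⟩
    have := (nontrivial_iff_ne_bot K).mpr hne
    have : Group.IsPerfect K := isPerfect_iff.mpr heq
    refine isQuasisimple_of_normal_central fun M hM => ?_
    rcases (map_subtype_le M).lt_or_eq with hlt | heq'
    · right
      have hn : K ≤ normalizer ((M.map K.subtype : Subgroup G) : Set G) := by
        refine le_trans ?_ (M.le_normalizer_map K.subtype)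
        rw [normalizer_eq_top, ← MonoidHom.range_eq_map, range_subtype]
      have := h _ hlt hn
      rw [← commutator_top_right_eq_bot_iff_le_center, ← map_subtype_inj, map_commutator,
        ← MonoidHom.range_eq_map, range_subtype, Subgroup.map_bot]
      exact this
    · left
      rw [← map_subtype_inj, heq', ← MonoidHom.range_eq_map, range_subtype]

/-- Key step: a subnormal subgroup centralising `F*(G)` lies in `F*(G)`. -/
theorem le_generalizedFittingSubgroup_of_le_centralizer [Finite G] {K : Subgroup G}
    (hK : K.IsSubnormal) (hc : K ≤ centralizer (generalizedFittingSubgroup G : Set G)) :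
    K ≤ generalizedFittingSubgroup G := by
  induction K using WellFoundedLT.induction with
  | _ K ih =>
    by_contra hnot
    have hne : K ≠ ⊥ := fun h => hnot (h ▸ bot_le)
    have key : ∀ M : Subgroup G, M < K → K ≤ normalizer (M : Set G) → ⁅M, K⁆ = ⊥ := by
      intro M hlt hn
      have hM : M ≤ generalizedFittingSubgroup G :=
        ih M hlt (isSubnormal_of_normalized hK hlt.le hn) (hlt.le.trans hc)
      rw [commutator_comm, commutator_eq_bot_iff_le_centralizer]
      exact hc.trans (centralizer_le hM)
    rcases isNilpotent_or_isComponent hK hne key with h | h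
    · exact hnot ((le_fittingSubgroup_of_isSubnormal hK).trans
        fittingSubgroup_le_generalizedFittingSubgroup)
    · exact hnot ((IsComponent.le_layer h).trans layer_le_generalizedFittingSubgroup)

/-- In a finite group the generalized Fitting subgroup contains its centraliser. -/
theorem centralizer_generalizedFittingSubgroup_le [Finite G] :
    centralizer (generalizedFittingSubgroup G : Set G) ≤ generalizedFittingSubgroup G :=
  le_generalizedFittingSubgroup_of_le_centralizer (inferInstance : (centralizer (generalizedFittingSubgroup G : Set G)).Normal).isSubnormal le_rfl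

end Cfsg.Agent.Components

namespace Cfsg.Agent.Components

open Subgroup

variable {G : Type*} [Group G]

theorem layer_eq_bot_of_isSolvable [Group.IsSolvable G] : layer G = ⊥ :=
  layer_eq_bot_iff.mpr fun ⟨K, hK⟩ => IsComponent.not_isSolvable hK inferInstance

theorem generalizedFittingSubgroup_eq_of_isSolvable [Group.IsSolvable G] :
    generalizedFittingSubgroup G = fittingSubgroup G := by
  rw [generalizedFittingSubgroup, layer_eq_bot_of_isSolvable, bot_sup_eq]

theorem generalizedFittingSubgroup_eq_fittingSubgroup_iff [Finite G] :
    generalizedFittingSubgroup G = fittingSubgroup G ↔ ¬ HasComponent G := by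
  constructor
  · rintro h ⟨K, hK⟩
    have hle : K ≤ fittingSubgroup G :=
      (IsComponent.le_layer hK).trans (layer_le_generalizedFittingSubgroup.trans h.le)
    exact IsComponent.not_isSolvable hK
      (Group.isSolvable_of_isSolvable_injective (f := inclusion hle) (inclusion_injective hle))
  · intro h
    rw [generalizedFittingSubgroup, layer_eq_bot_iff.mpr h, bot_sup_eq]

theorem generalizedFittingSubgroup_ne_bot [Finite G] [Nontrivial G] :
    generalizedFittingSubgroup G ≠ ⊥ := by
  intro h
  have := centralizer_generalizedFittingSubgroup_le (G := G)
  rw [h] at this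
  obtain ⟨x, hx⟩ := exists_ne (1 : G)
  exact hx (mem_bot.mp (this (mem_centralizer_iff.mpr fun y hy => by
    rw [mem_bot.mp hy, one_mul, mul_one])))

/-- The centraliser of `F*(G)` is the centre of `F*(G)`. -/
theorem centralizer_generalizedFittingSubgroup_eq [Finite G] :
    centralizer (generalizedFittingSubgroup G : Set G) =
      (center (generalizedFittingSubgroup G)).map (generalizedFittingSubgroup G).subtype := by
  refine le_antisymm (fun x hx => ?_) ?_
  · exact ⟨⟨x, centralizer_generalizedFittingSubgroup_le hx⟩,
      mem_center_iff.mpr fun y => Subtype.ext (mem_centralizer_iff.mp hx y y.2), rfl⟩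
  · rintro _ ⟨z, hz, rfl⟩
    exact mem_centralizer_iff.mpr fun y hy => congrArg Subtype.val (mem_center_iff.mp hz ⟨y, hy⟩)

end Cfsg.Agent.Components
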