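import Cfsg.Agent.Lib.Components.PComponents

/-!
The quotient of a `p`-component by its `p'`-core, `p`-components that are components, and the
Fitting subgroup when `O_{p'} = 1`.
-/

namespace Cfsg.Agent.Components

open Subgroup
open scoped commutatorElement

variable {G G' : Type*} [Group G] [Group G'] {p : ℕ}

/-- A perfect central extension of a quasisimple group is quasisimple. -/
theorem isQuasisimple_of_surjective_of_ker_le_center [Group.IsPerfect G] (f : G →* G')
    (hf : Function.Surjective f) (hker : f.ker ≤ center G) (h : IsQuasisimple G') :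
    IsQuasisimple G := by
  have := IsQuasisimple.nontrivial h
  have : Nontrivial G := hf.nontrivial
  refine isQuasisimple_of_normal_central fun M hM => ?_
  rcases IsQuasisimple.normal_eq_top_or_le_center h (M.map f) (hM := hM.map f hf) with ht | hc
  · left
    have hsup : M ⊔ f.ker = ⊤ := by rw [← comap_map_eq, ht, comap_top]
    have hab : IsMulCommutative f.ker :=
      ⟨⟨fun a b => Subtype.ext (mem_center_iff.mp (hker b.2) a)⟩⟩
    have := Normal.commutator_le_of_self_sup_commutative_eq_top (N := M) hsup hab
    rwa [Group.IsPerfect.commutator_eq_top, top_le_iff] at this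
  · right
    rw [← commutator_top_left_eq_bot_iff_le_center]
    refine commutator_eq_bot_of_commutator_commutator
      (Group.IsPerfect.top_iff.mpr inferInstance) ?_
    rw [commutator_top_right_eq_bot_iff_le_center]
    refine le_trans ?_ hker
    rw [← Subgroup.map_eq_bot_iff, map_commutator, map_top_of_surjective f hf,
      commutator_top_right_eq_bot_iff_le_center]
    exact hc

theorem IsPComponent.map_pPrimeCore_eq [Finite G] {K : Subgroup G} (hK : IsPComponent p K) :
    (pPrimeCore p K).map K.subtype = pPrimeCore p G ⊓ K :=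
  map_subtype_pPrimeCore_eq_of_isSubnormal hK.1

theorem IsPComponent.isQuasisimple_quotient [Finite G] {K : Subgroup G} (hK : IsPComponent p K) :
    IsQuasisimple (K ⧸ pPrimeCore p K) := by
  let f : K →* K.map (QuotientGroup.mk' (pPrimeCore p G)) :=
    (QuotientGroup.mk' (pPrimeCore p G)).subgroupMap K
  have hf : Function.Surjective f := MonoidHom.subgroupMap_surjective _ _
  have hker : f.ker = pPrimeCore p K := by
    apply Subgroup.map_injective K.subtype_injective
    rw [IsPComponent.map_pPrimeCore_eq hK]
    ext x
    constructor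
    · rintro ⟨y, hy, rfl⟩
      exact ⟨(QuotientGroup.eq_one_iff _).mp (congrArg Subtype.val (MonoidHom.mem_ker.mp hy)), y.2⟩
    · rintro ⟨h1, h2⟩
      exact ⟨⟨x, h2⟩, MonoidHom.mem_ker.mpr (Subtype.ext ((QuotientGroup.eq_one_iff x).mpr h1)), rfl⟩
  let e : K ⧸ pPrimeCore p K ≃* K.map (QuotientGroup.mk' (pPrimeCore p G)) :=
    (QuotientGroup.quotientMulEquivOfEq hker.symm).trans
      (QuotientGroup.quotientKerEquivOfSurjective f hf)
  exact (isQuasisimple_congr e).mpr hK.2.1.2

/-- A `p`-component centralising its `p'`-core is quasisimple, and conversely. -/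
theorem IsPComponent.isQuasisimple_iff [Finite G] [Fact p.Prime] {K : Subgroup G}
    (hK : IsPComponent p K) :
    IsQuasisimple K ↔ ⁅K, (pPrimeCore p K).map K.subtype⁆ = ⊥ := by
  constructor
  · intro h
    refine (IsQuasisimple.eq_or_commutator_eq_bot h (map_subtype_le _) ?_).resolve_left ?_
    · exact (Subgroup.le_normalizer (H := K)).trans
        (normalizer_le_normalizer_map_of_characteristic K _)
    · intro he
      refine IsPComponent.not_le_pPrimeCore hK ?_
      rw [IsPComponent.map_pPrimeCore_eq hK] at he
      exact inf_eq_right.mp he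
  · intro h
    have : Group.IsPerfect K := isPerfect_iff.mpr (IsPComponent.commutator_self hK)
    refine isQuasisimple_of_surjective_of_ker_le_center _ (QuotientGroup.mk'_surjective _) ?_
      (IsPComponent.isQuasisimple_quotient hK)
    rw [QuotientGroup.ker_mk', ← commutator_top_left_eq_bot_iff_le_center]
    apply Subgroup.map_injective K.subtype_injective
    rwa [map_commutator, Subgroup.map_bot, ← MonoidHom.range_eq_map, range_subtype]

theorem IsPComponent.isComponent_iff [Finite G] [Fact p.Prime] {K : Subgroup G}
    (hK : IsPComponent p K) : IsComponent K ↔ IsQuasisimple K :=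
  ⟨fun h => h.2, fun h => ⟨hK.1, h⟩⟩

/-- A component not inside `O_{p'}(G)` is a `p`-component. -/
theorem IsComponent.isPComponent [Finite G] {K : Subgroup G} (hK : IsComponent K)
    (hne : ¬ K ≤ pPrimeCore p G) : IsPComponent p K := by
  have hne' : K.map (QuotientGroup.mk' (pPrimeCore p G)) ≠ ⊥ := fun h =>
    hne (by rwa [Subgroup.map_eq_bot_iff, QuotientGroup.ker_mk'] at h)
  refine ⟨hK.1, IsComponent.map_of_surjective hK (QuotientGroup.mk'_surjective _) hne',
    fun H hH hle h => ?_⟩
  refine (IsQuasisimple.eq_or_commutator_eq_bot_of_subnormal hK.2 hle hH.subgroupOf).resolve_right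
    fun hc => hne' ?_
  calc K.map (QuotientGroup.mk' (pPrimeCore p G))
      = ⁅K.map (QuotientGroup.mk' (pPrimeCore p G)), H.map (QuotientGroup.mk' (pPrimeCore p G))⁆ := by
        rw [h, ← map_commutator, IsComponent.commutator_self hK]
    _ = ⊥ := by rw [← map_commutator, hc, Subgroup.map_bot]

theorem fittingSubgroup_eq_pCore [Finite G] [hp : Fact p.Prime] (h : pPrimeCore p G = ⊥) :
    fittingSubgroup G = pCore p G := by
  refine le_antisymm ?_ (pCore_le_fittingSubgroup hp.out)
  rw [fittingSubgroup_eq_iSup_pCore]
  refine iSup_le fun q => ?_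
  have := Fact.mk (Nat.prime_of_mem_primeFactors q.2)
  by_cases hq : (q : ℕ) = p
  · rw [hq]
  · exact (PCore.pCore_le_pPrimeCore hq).trans (h.le.trans bot_le)

end Cfsg.Agent.Components

namespace Cfsg.Agent.Components

open Subgroup

variable {G : Type*} [Group G] {p : ℕ}

/-- A `p`-component centralises `O_p(G)`. -/
theorem IsPComponent.commutator_pCore [Finite G] [hp : Fact p.Prime] {K : Subgroup G}
    (hK : IsPComponent p K) : ⁅K, pCore p G⁆ = ⊥ := by
  have hn : (pCore p G).Normal := pCore_normal' p
  have : Group.IsNilpotent ((pCore p G).map (QuotientGroup.mk' (pPrimeCore p G))) :=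
    ((isPGroup_pCore' (G := G) p).map _).isNilpotent
  have hq := IsComponent.commutator_eq_bot_of_isSolvable hK.2.1
    (U := (pCore p G).map (QuotientGroup.mk' (pPrimeCore p G)))
    (hn.map _ (QuotientGroup.mk'_surjective _)).isSubnormal
  rw [← map_commutator, Subgroup.map_eq_bot_iff, QuotientGroup.ker_mk'] at hq
  rw [eq_bot_iff, ← PCore.pCore_inf_pPrimeCore]
  exact le_inf (commutator_le_right _ _) hq

end Cfsg.Agent.Components
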