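import Cfsg.Agent.Lib.Components.GenFitting
import Cfsg.Agent.Lib.PCore.Basic
import Mathlib.GroupTheory.Transfer

/-!
`p`-components and the `p`-layer: for each component of `G / O_{p'}(G)` there is exactly one
`p`-component mapping onto it, namely the subgroup generated by the `p`-elements of its preimage.
-/

namespace Cfsg.Agent.Components

open Subgroup
open scoped commutatorElement

variable {G G' : Type*} [Group G] [Group G'] {p : ℕ}

/-- The subgroup generated by the `p`-elements of `P`. -/
def pElementClosure (p : ℕ) (P : Subgroup G) : Subgroup G :=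
  Subgroup.closure {x : G | x ∈ P ∧ ∃ k : ℕ, x ^ p ^ k = 1}

theorem pElementClosure_le (P : Subgroup G) : pElementClosure p P ≤ P :=
  (Subgroup.closure_le P).mpr fun _ hx => hx.1

theorem mem_pElementClosure {P : Subgroup G} {x : G} (hx : x ∈ P) {k : ℕ} (hk : x ^ p ^ k = 1) :
    x ∈ pElementClosure p P :=
  Subgroup.subset_closure ⟨hx, k, hk⟩

theorem pElementClosure_mono {P Q : Subgroup G} (h : P ≤ Q) :
    pElementClosure p P ≤ pElementClosure p Q :=
  Subgroup.closure_mono fun _ hx => ⟨h hx.1, hx.2⟩

theorem pElementClosure_idem (P : Subgroup G) :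
    pElementClosure p (pElementClosure p P) = pElementClosure p P :=
  le_antisymm (pElementClosure_le _) <| (Subgroup.closure_le _).mpr fun _ ⟨hx, _, hk⟩ =>
    mem_pElementClosure (mem_pElementClosure hx hk) hk

theorem normalizer_le_normalizer_pElementClosure (P : Subgroup G) :
    normalizer (P : Set G) ≤ normalizer (pElementClosure p P : Set G) := by
  refine le_normalizer_closure_iff.mpr ?_
  rintro g hg x ⟨hx, k, hk⟩
  refine Subgroup.subset_closure ⟨(mem_normalizer_iff.mp hg x).mp hx, k, ?_⟩
  rw [conj_pow, hk, mul_one, mul_inv_cancel]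

theorem pElementClosure_subgroupOf_normal (P : Subgroup G) :
    ((pElementClosure p P).subgroupOf P).Normal :=
  normal_subgroupOf_of_le_normalizer
    (le_normalizer.trans (normalizer_le_normalizer_pElementClosure P))

/-- A `p`-element of the image lifts to a `p`-element. -/
theorem exists_pElement_lift [Finite G] [hp : Fact p.Prime] (f : G →* G') {x : G} {k : ℕ}
    (hk : f x ^ p ^ k = 1) :
    ∃ y ∈ zpowers x, f y = f x ∧ ∃ l : ℕ, y ^ p ^ l = 1 := by
  obtain ⟨a, m, hm, hn⟩ := Nat.exists_eq_pow_mul_and_not_dvd (orderOf_pos x).ne' p hp.out.ne_one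
  have hcop : m.Coprime (orderOf (f x)) :=
    (Nat.Coprime.pow_right k ((hp.out.coprime_iff_not_dvd.mpr hm).symm)).coprime_dvd_right
      (orderOf_dvd_of_pow_eq_one hk)
  obtain ⟨c, hc⟩ := exists_pow_eq_self_of_coprime hcop
  refine ⟨(x ^ m) ^ c, pow_mem (pow_mem (mem_zpowers x) m) c, by rw [map_pow, map_pow, hc], a, ?_⟩
  rw [← pow_mul, ← pow_mul, ← orderOf_dvd_iff_pow_eq_one, hn]
  exact ⟨c, by ring⟩

theorem map_pElementClosure [Finite G] [Fact p.Prime] (f : G →* G') (P : Subgroup G) :
    (pElementClosure p P).map f = pElementClosure p (P.map f) := by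
  refine le_antisymm ?_ ((Subgroup.closure_le _).mpr ?_)
  · rw [map_le_iff_le_comap]
    refine (Subgroup.closure_le _).mpr fun x ⟨hx, k, hk⟩ => ?_
    exact mem_pElementClosure (mem_map_of_mem f hx) (k := k) (by rw [← map_pow, hk, map_one])
  · rintro _ ⟨⟨x, hx, rfl⟩, k, hk⟩
    obtain ⟨y, hy, hfy, l, hl⟩ := exists_pElement_lift f hk
    exact ⟨y, mem_pElementClosure ((zpowers_le.mpr hx) hy) hl, hfy⟩

/-- A subnormal subgroup of index prime to `p` contains every `p`-element. -/
theorem mem_of_isSubnormal_of_coprime_index [Finite G] [hp : Fact p.Prime] {H : Subgroup G}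
    (hH : H.IsSubnormal) (hi : H.index.Coprime p) {x : G} {k : ℕ} (hk : x ^ p ^ k = 1) :
    x ∈ H := by
  induction hH with
  | top => exact mem_top x
  | step H K hle hK hN ih =>
    rw [← relIndex_mul_index hle] at hi
    have hxK : x ∈ K := ih hi.coprime_mul_left
    have := hN
    have h1 : orderOf (QuotientGroup.mk' (H.subgroupOf K) ⟨x, hxK⟩) ∣ p ^ k :=
      orderOf_dvd_of_pow_eq_one (by
        rw [← map_pow, show (⟨x, hxK⟩ : K) ^ p ^ k = 1 from Subtype.ext (by simpa using hk),
          map_one])
    have h2 : orderOf (QuotientGroup.mk' (H.subgroupOf K) ⟨x, hxK⟩) ∣ H.relIndex K :=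
      orderOf_dvd_natCard _
    have := Nat.eq_one_of_dvd_coprimes (hi.coprime_mul_right.pow_right k) h2 h1
    rw [orderOf_eq_one_iff, QuotientGroup.mk'_apply, QuotientGroup.eq_one_iff] at this
    exact this

theorem pElementClosure_le_of_isSubnormal [Finite G] [Fact p.Prime] {H P : Subgroup G}
    (hH : (H.subgroupOf P).IsSubnormal) (hi : (H.relIndex P).Coprime p) :
    pElementClosure p P ≤ H :=
  (Subgroup.closure_le H).mpr fun x ⟨hx, k, hk⟩ =>
    mem_of_isSubnormal_of_coprime_index hH hi (x := ⟨x, hx⟩) (k := k) (Subtype.ext (by simpa using hk))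

/-! ### Subnormal subgroups and `O_{p'}` -/

theorem map_subtype_pPrimeCore_le_of_isSubnormal [Finite G] {H : Subgroup G}
    (hH : H.IsSubnormal) : (pPrimeCore p H).map H.subtype ≤ pPrimeCore p G := by
  induction hH with
  | top =>
    rw [map_le_iff_le_comap]
    intro x hx
    exact PCore.map_pPrimeCore_le ((topEquiv : (⊤ : Subgroup G) ≃* G).toMonoidHom) topEquiv.surjective (mem_map_of_mem _ hx)
  | step H K hle hK hN ih =>
    have hC := map_char_normal_subgroupOf hle hN (pPrimeCore p H)
    have hle' : (pPrimeCore p H).map H.subtype ≤ K := (map_subtype_le _).trans hle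
    rw [← map_subgroupOf_eq_of_le hle']
    refine (Subgroup.map_mono (PCore.le_pPrimeCore (hN := hC) ?_)).trans ih
    rw [Nat.card_congr (subgroupOfEquivOfLe hle').toEquiv, card_map_of_injective H.subtype_injective]
    exact PCore.coprime_card_pPrimeCore

theorem map_subtype_pPrimeCore_eq_of_isSubnormal [Finite G] {H : Subgroup G}
    (hH : H.IsSubnormal) : (pPrimeCore p H).map H.subtype = pPrimeCore p G ⊓ H :=
  le_antisymm (le_inf (map_subtype_pPrimeCore_le_of_isSubnormal hH) (map_subtype_le _))
    (PCore.pPrimeCore_inf_le H)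

theorem le_pPrimeCore_of_isSubnormal [Finite G] {H : Subgroup G} (hH : H.IsSubnormal)
    (hc : (Nat.card H).Coprime p) : H ≤ pPrimeCore p G := by
  refine le_trans ?_ (map_subtype_pPrimeCore_le_of_isSubnormal hH)
  rw [PCore.pPrimeCore_eq_top_iff.mpr hc, ← MonoidHom.range_eq_map, range_subtype]

/-- A perfect group whose Sylow `p`-subgroup is central has order prime to `p`. -/
theorem not_dvd_card_of_sylow_le_center [Finite G] [Fact p.Prime] [Group.IsPerfect G]
    (P : Sylow p G) (hP : (P : Subgroup G) ≤ center G) : ¬ p ∣ Nat.card G := by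
  have hPc : normalizer (P : Set G) ≤ centralizer (P : Set G) := fun g _ =>
    mem_centralizer_iff.mpr fun x hx => (mem_center_iff.mp (hP hx) g).symm
  set f := MonoidHom.transferSylow P hPc
  have hPab : IsMulCommutative (P : Subgroup G) :=
    ⟨⟨fun a b => Subtype.ext (mem_center_iff.mp (hP b.2) a)⟩⟩
  have hker : f.ker = ⊤ := by
    rw [eq_top_iff, ← Group.IsPerfect.commutator_eq_top (G := G)]
    refine commutator_le.mpr fun a _ b _ => ?_
    rw [MonoidHom.mem_ker, map_commutatorElement]
    exact commutatorElement_eq_one_iff_mul_comm.mpr (hPab.is_comm.comm _ _)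
  have := MonoidHom.not_dvd_card_ker_transferSylow P hPc
  rwa [hker, card_top] at this

/-! ### Components when `O_{p'} = 1` -/

theorem IsComponent.dvd_card [Finite G] [hp : Fact p.Prime] (h : pPrimeCore p G = ⊥)
    {C : Subgroup G} (hC : IsComponent C) : p ∣ Nat.card C := by
  by_contra hd
  exact IsComponent.ne_bot hC (le_bot_iff.mp (h ▸ le_pPrimeCore_of_isSubnormal hC.1
    (hp.out.coprime_iff_not_dvd.mpr hd).symm))

theorem IsComponent.pElementClosure_eq [Finite G] [hp : Fact p.Prime] (h : pPrimeCore p G = ⊥)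
    {C : Subgroup G} (hC : IsComponent C) : pElementClosure p C = C := by
  have hn : C ≤ normalizer (pElementClosure p C : Set G) :=
    Subgroup.le_normalizer.trans (normalizer_le_normalizer_pElementClosure C)
  rcases IsQuasisimple.eq_or_commutator_eq_bot hC.2 (pElementClosure_le C) hn with h' | h'
  · exact h'
  · exfalso
    have := hC.2.1
    obtain ⟨P⟩ : Nonempty (Sylow p C) := inferInstance
    refine not_dvd_card_of_sylow_le_center P (fun x hx => ?_) (IsComponent.dvd_card h hC)
    obtain ⟨k, hk⟩ := P.isPGroup' ⟨x, hx⟩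
    have hxc : (x : G) ∈ pElementClosure p C :=
      mem_pElementClosure x.2 (k := k) (by simpa using congrArg (fun y : (P : Subgroup C) => ((y : C) : G)) hk)
    refine mem_center_iff.mpr fun y => Subtype.ext ?_
    exact mem_centralizer_iff.mp (le_centralizer_of_commutator_eq_bot (commutator_eq_bot_symm h') hxc)
      y y.2

/-! ### `p`-components -/

/-- The `p`-component of `G` lying over the component `C` of `G / O_{p'}(G)`. -/
def pComponentOf (p : ℕ) (C : Subgroup (G ⧸ pPrimeCore p G)) : Subgroup G :=
  pElementClosure p (C.comap (QuotientGroup.mk' (pPrimeCore p G)))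

theorem pComponentOf_le (C : Subgroup (G ⧸ pPrimeCore p G)) :
    pComponentOf p C ≤ C.comap (QuotientGroup.mk' (pPrimeCore p G)) := pElementClosure_le _

theorem map_pComponentOf [Finite G] [Fact p.Prime] {C : Subgroup (G ⧸ pPrimeCore p G)}
    (hC : IsComponent C) :
    (pComponentOf p C).map (QuotientGroup.mk' (pPrimeCore p G)) = C := by
  rw [pComponentOf, map_pElementClosure,
    map_comap_eq_self_of_surjective (QuotientGroup.mk'_surjective _),
    IsComponent.pElementClosure_eq PCore.pPrimeCore_quotient_self_eq_bot hC]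

theorem isSubnormal_pComponentOf {C : Subgroup (G ⧸ pPrimeCore p G)} (hC : C.IsSubnormal) :
    (pComponentOf p C).IsSubnormal :=
  isSubnormal_of_normalized (hC.comap _) (pElementClosure_le _)
    (le_normalizer.trans (normalizer_le_normalizer_pElementClosure _))

/-- A subnormal subgroup of the preimage of `C` mapping onto `C` contains the `p`-component. -/
theorem pComponentOf_le_of_map_eq [Finite G] [Fact p.Prime] {C : Subgroup (G ⧸ pPrimeCore p G)}
    {H : Subgroup G} (hH : H.IsSubnormal)
    (h : H.map (QuotientGroup.mk' (pPrimeCore p G)) = C) : pComponentOf p C ≤ H := by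
  refine pElementClosure_le_of_isSubnormal hH.subgroupOf ?_
  rw [← h, comap_map_eq, QuotientGroup.ker_mk']
  refine (PCore.coprime_card_pPrimeCore (G := G) (p := p)).coprime_dvd_left ?_
  refine (mul_dvd_mul_iff_left (Nat.card_pos (α := H)).ne').mp ?_
  conv_lhs => rw [← relIndex_bot_left H, relIndex_mul_relIndex _ _ _ bot_le le_sup_left,
    relIndex_bot_left, sup_comm]
  exact (PCore.card_sup_dvd _ _).trans (dvd_of_eq (mul_comm _ _))

theorem isPComponent_pComponentOf [Finite G] [Fact p.Prime] {C : Subgroup (G ⧸ pPrimeCore p G)}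
    (hC : IsComponent C) : IsPComponent p (pComponentOf p C) :=
  ⟨isSubnormal_pComponentOf hC.1, (map_pComponentOf hC).symm ▸ hC,
    fun _ hH hle h => le_antisymm hle
      (pComponentOf_le_of_map_eq hH (h.trans (map_pComponentOf hC)))⟩

theorem IsPComponent.eq_pComponentOf [Finite G] [Fact p.Prime] {K : Subgroup G}
    (hK : IsPComponent p K) :
    K = pComponentOf p (K.map (QuotientGroup.mk' (pPrimeCore p G))) :=
  (hK.2.2 _ (isSubnormal_pComponentOf hK.2.1.1) (pComponentOf_le_of_map_eq hK.1 rfl)
    (map_pComponentOf hK.2.1)).symm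

theorem isPComponent_iff [Finite G] [Fact p.Prime] {K : Subgroup G} :
    IsPComponent p K ↔
      ∃ C : Subgroup (G ⧸ pPrimeCore p G), IsComponent C ∧ K = pComponentOf p C :=
  ⟨fun h => ⟨_, h.2.1, IsPComponent.eq_pComponentOf h⟩,
    fun ⟨_, hC, h⟩ => h ▸ isPComponent_pComponentOf hC⟩

theorem IsPComponent.pElementClosure_eq [Finite G] [Fact p.Prime] {K : Subgroup G}
    (hK : IsPComponent p K) : pElementClosure p K = K := by
  rw [IsPComponent.eq_pComponentOf hK]
  exact pElementClosure_idem _

theorem IsPComponent.eq_of_map_eq [Finite G] [Fact p.Prime] {K L : Subgroup G}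
    (hK : IsPComponent p K) (hL : IsPComponent p L)
    (h : K.map (QuotientGroup.mk' (pPrimeCore p G)) = L.map (QuotientGroup.mk' (pPrimeCore p G))) :
    K = L := by
  rw [IsPComponent.eq_pComponentOf hK, IsPComponent.eq_pComponentOf hL, h]

/-- `p`-components are perfect. -/
theorem IsPComponent.commutator_self {K : Subgroup G} (hK : IsPComponent p K) : ⁅K, K⁆ = K :=
  hK.2.2 _ (isSubnormal_commutator_self hK.1) K.commutator_le_self
    (by rw [map_commutator]; exact IsComponent.commutator_self hK.2.1)

theorem IsPComponent.not_le_pPrimeCore {K : Subgroup G} (hK : IsPComponent p K) :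
    ¬ K ≤ pPrimeCore p G := fun h => IsComponent.ne_bot hK.2.1 (by
  rw [Subgroup.map_eq_bot_iff, QuotientGroup.ker_mk']; exact h)

theorem IsPComponent.dvd_card [Finite G] [Fact p.Prime] {K : Subgroup G} (hK : IsPComponent p K) :
    p ∣ Nat.card K :=
  (IsComponent.dvd_card PCore.pPrimeCore_quotient_self_eq_bot hK.2.1).trans (card_map_dvd _ _)

/-- A `p`-component has no proper subnormal subgroup of index prime to `p`. -/
theorem IsPComponent.eq_of_relIndex_coprime [Finite G] [Fact p.Prime] {K H : Subgroup G}
    (hK : IsPComponent p K) (hle : H ≤ K) (hH : (H.subgroupOf K).IsSubnormal)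
    (hi : (H.relIndex K).Coprime p) : H = K :=
  le_antisymm hle ((IsPComponent.pElementClosure_eq hK).ge.trans
    (pElementClosure_le_of_isSubnormal hH hi))

/-- A perfect subnormal subgroup of `K` of order divisible by `p` is `K`. -/
theorem IsPComponent.eq_of_perfect [Finite G] [hp : Fact p.Prime] {K H : Subgroup G}
    (hK : IsPComponent p K) (hle : H ≤ K) (hH : H.IsSubnormal) (hperf : ⁅H, H⁆ = H)
    (hd : p ∣ Nat.card H) : H = K := by
  refine hK.2.2 H hH hle ?_
  rcases IsQuasisimple.eq_or_commutator_eq_bot_of_subnormal hK.2.1.2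
    (Subgroup.map_mono (f := QuotientGroup.mk' (pPrimeCore p G)) hle) hH.quotient.subgroupOf
    with h | h
  · exact h
  · exfalso
    have hbot : ⁅H, H⁆.map (QuotientGroup.mk' (pPrimeCore p G)) = ⊥ := by
      rw [map_commutator, eq_bot_iff, ← h]
      exact commutator_mono (Subgroup.map_mono hle) le_rfl
    rw [hperf, Subgroup.map_eq_bot_iff, QuotientGroup.ker_mk'] at hbot
    exact PCore.not_dvd_card_pPrimeCore (hd.trans (card_dvd_of_le hbot))

/-- Elements normalising the image of a `p`-component normalise it. -/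
theorem IsPComponent.comap_normalizer_le [Finite G] [Fact p.Prime] {K : Subgroup G}
    (hK : IsPComponent p K) :
    (normalizer ((K.map (QuotientGroup.mk' (pPrimeCore p G)) : Subgroup _) : Set _)).comap
      (QuotientGroup.mk' (pPrimeCore p G)) ≤ normalizer (K : Set G) := by
  conv_rhs => rw [IsPComponent.eq_pComponentOf hK]
  exact (le_normalizer_comap _).trans (normalizer_le_normalizer_pElementClosure _)

theorem IsPComponent.pPrimeCore_le_normalizer [Finite G] [Fact p.Prime] {K : Subgroup G}
    (hK : IsPComponent p K) : pPrimeCore p G ≤ normalizer (K : Set G) :=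
  le_trans ((QuotientGroup.ker_mk' (pPrimeCore p G)).ge.trans
    ((MonoidHom.comap_bot _).ge.trans (Subgroup.comap_mono bot_le)))
    (IsPComponent.comap_normalizer_le hK)

theorem IsPComponent.commutator_le [Finite G] [Fact p.Prime] {K L : Subgroup G}
    (hK : IsPComponent p K) (hL : IsPComponent p L) (hne : K ≠ L) :
    ⁅K, L⁆ ≤ pPrimeCore p G := by
  rw [← QuotientGroup.ker_mk' (pPrimeCore p G), ← Subgroup.map_eq_bot_iff, map_commutator]
  exact IsComponent.commutator_eq_bot hK.2.1 hL.2.1 fun h => hne (IsPComponent.eq_of_map_eq hK hL h)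

theorem IsPComponent.le_normalizer [Finite G] [Fact p.Prime] {K L : Subgroup G}
    (hK : IsPComponent p K) (hL : IsPComponent p L) : L ≤ normalizer (K : Set G) :=
  (map_le_iff_le_comap.mp (IsComponent.le_normalizer hL.2.1 hK.2.1)).trans
    (IsPComponent.comap_normalizer_le hK)

theorem IsPComponent.commutator_le_inf [Finite G] [Fact p.Prime] {K L : Subgroup G}
    (hK : IsPComponent p K) (hL : IsPComponent p L) (hne : K ≠ L) :
    ⁅K, L⁆ ≤ pPrimeCore p G ⊓ K ⊓ L :=
  le_inf (le_inf (IsPComponent.commutator_le hK hL hne)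
    (le_normalizer_iff_commutator_le_left.mp (IsPComponent.le_normalizer hK hL)))
    (le_normalizer_iff_commutator_le_right.mp (IsPComponent.le_normalizer hL hK))

/-! ### The `p`-layer -/

theorem IsPComponent.le_pLayer {K : Subgroup G} (hK : IsPComponent p K) : K ≤ pLayer p G :=
  le_sSup hK

theorem map_pLayer [Finite G] [Fact p.Prime] :
    (pLayer p G).map (QuotientGroup.mk' (pPrimeCore p G)) = layer (G ⧸ pPrimeCore p G) := by
  refine le_antisymm ?_ (sSup_le fun C hC => ?_)
  · rw [map_le_iff_le_comap]
    exact sSup_le fun K hK => map_le_iff_le_comap.mp (IsComponent.le_layer hK.2.1)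
  · exact (map_pComponentOf hC).ge.trans
      (Subgroup.map_mono (IsPComponent.le_pLayer (isPComponent_pComponentOf hC)))

theorem pLayer_eq_bot_iff [Finite G] [Fact p.Prime] :
    pLayer p G = ⊥ ↔ layer (G ⧸ pPrimeCore p G) = ⊥ := by
  constructor
  · intro h
    rw [← map_pLayer, h, Subgroup.map_bot]
  · intro h
    exact le_bot_iff.mp (sSup_le fun K hK => absurd ⟨_, hK.2.1⟩ (layer_eq_bot_iff.mp h))

theorem IsPComponent.map_equiv [Finite G] [Finite G'] [Fact p.Prime] {K : Subgroup G}
    (hK : IsPComponent p K) (e : G ≃* G') : IsPComponent p (K.map e.toMonoidHom) := by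
  let eQ : (G ⧸ pPrimeCore p G) ≃* G' ⧸ pPrimeCore p G' :=
    QuotientGroup.congr _ _ e (PCore.map_pPrimeCore_mulEquiv e)
  have hcomm : ∀ H : Subgroup G,
      (H.map e.toMonoidHom).map (QuotientGroup.mk' (pPrimeCore p G')) =
        (H.map (QuotientGroup.mk' (pPrimeCore p G))).map eQ.toMonoidHom := fun H => by
    rw [map_map, map_map]; rfl
  refine isPComponent_iff.mpr ⟨_, IsComponent.map_equiv hK.2.1 eQ, ?_⟩
  rw [pComponentOf, ← hcomm, comap_map_eq, QuotientGroup.ker_mk',
    ← PCore.map_pPrimeCore_mulEquiv e, ← Subgroup.map_sup, ← map_pElementClosure]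
  congr 1
  conv_lhs => rw [IsPComponent.eq_pComponentOf hK, pComponentOf, comap_map_eq, QuotientGroup.ker_mk']

theorem map_pLayer_le [Finite G] [Finite G'] [Fact p.Prime] (e : G ≃* G') :
    (pLayer p G).map e.toMonoidHom ≤ pLayer p G' := by
  rw [map_le_iff_le_comap]
  exact sSup_le fun K hK =>
    map_le_iff_le_comap.mp (IsPComponent.le_pLayer (IsPComponent.map_equiv hK e))

theorem pLayer_characteristic [Finite G] [Fact p.Prime] : (pLayer p G).Characteristic :=
  characteristic_iff_map_le.mpr fun e => map_pLayer_le e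

theorem pLayer_normal [Finite G] [Fact p.Prime] : (pLayer p G).Normal :=
  have := pLayer_characteristic (G := G) (p := p)
  inferInstance

theorem commutator_pLayer_self : ⁅pLayer p G, pLayer p G⁆ = pLayer p G := by
  refine le_antisymm (pLayer p G).commutator_le_self (sSup_le fun K hK => ?_)
  exact (IsPComponent.commutator_self hK).ge.trans
    (commutator_mono (IsPComponent.le_pLayer hK) (IsPComponent.le_pLayer hK))

theorem IsPComponent.pLayer_le_normalizer [Finite G] [Fact p.Prime] {K : Subgroup G}
    (hK : IsPComponent p K) : pLayer p G ≤ normalizer (K : Set G) :=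
  sSup_le fun _ hL => IsPComponent.le_normalizer hK hL

theorem IsPComponent.normal_subgroupOf_pLayer [Finite G] [Fact p.Prime] {K : Subgroup G}
    (hK : IsPComponent p K) : (K.subgroupOf (pLayer p G)).Normal :=
  normal_subgroupOf_of_le_normalizer (IsPComponent.pLayer_le_normalizer hK)

end Cfsg.Agent.Components
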