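import Mathlib
import Cfsg.Prelude.Def_OddOrderLocal
import Cfsg.Agent.Lib.Components.Subnormal
import Cfsg.Agent.Lib.OddOrder.PiCore

/-!
Wielandt: minimal normal subgroups normalise subnormal subgroups; two further facts on subnormal subgroups.
-/

namespace Cfsg.Agent.Components

open Subgroup

universe u

theorem exists_minimalNormal_le {G : Type u} [Group G] [Finite G] {N : Subgroup G} (hN : N.Normal) (hne : N ≠ ⊥) :
    ∃ m : Subgroup G, m.Normal ∧ m ≠ ⊥ ∧ m ≤ N ∧ ∀ m' : Subgroup G, m'.Normal → m' ≤ m → m' = ⊥ ∨ m' = m := by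
  obtain ⟨m, ⟨h1, h2, h3⟩, hmin⟩ := ({m : Subgroup G | m.Normal ∧ m ≠ ⊥ ∧ m ≤ N}).toFinite.exists_minimal
    ⟨N, hN, hne, le_rfl⟩
  refine ⟨m, h1, h2, h3, fun m' hm' hle => ?_⟩
  rcases eq_or_ne m' ⊥ with h | h
  · exact Or.inl h
  · exact Or.inr (le_antisymm hle (hmin ⟨hm', h, hle.trans h3⟩ hle))

/-- A minimal normal subgroup normalises every subnormal subgroup. -/
theorem minimalNormal_le_normalizer {G : Type u} [Group G] [Finite G] {N L : Subgroup G} (hN : N.Normal)
    (hmin : ∀ M : Subgroup G, M.Normal → M ≤ N → M = ⊥ ∨ M = N) (hL : L.IsSubnormal) :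
    N ≤ normalizer (L : Set G) := by
  suffices H : ∀ n : ℕ, ∀ (G : Type u) [Group G] [Finite G], Nat.card G = n → ∀ (N L : Subgroup G), N.Normal →
      (∀ M : Subgroup G, M.Normal → M ≤ N → M = ⊥ ∨ M = N) → L.IsSubnormal → N ≤ normalizer (L : Set G) from
    H _ G rfl N L hN hmin hL
  intro n
  induction n using Nat.strong_induction_on with
  | _ n ih =>
    intro G _ _ hn N L hN hmin hL
    rcases eq_or_ne L ⊤ with rfl | hne
    · rw [normalizer_eq_top_iff.2 inferInstance]; exact le_top
    obtain ⟨M, hM, hLM, hMt⟩ := hL.lt_normal.resolve_left hne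
    rcases hmin (N ⊓ M) inferInstance inf_le_left with h | h
    · have hc : ⁅N, M⁆ = ⊥ := eq_bot_iff.2 (h ▸ commutator_le_inf N M)
      exact ((le_centralizer_of_commutator_eq_bot hc).trans (centralizer_le hLM)).trans (centralizer_le_normalizer _)
    · have hNM : N ≤ M := inf_eq_left.1 h
      rcases eq_or_ne N ⊥ with rfl | hNb
      · exact bot_le
      have hcard : Nat.card M < n := by
        refine lt_of_le_of_ne (hn ▸ card_le_card_group M) fun h => hMt.ne ?_
        exact eq_top_of_card_eq M (h.trans hn.symm)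
      obtain ⟨m, hm1, hm2, hm3, hm4⟩ := exists_minimalNormal_le (G := M) (N := N.subgroupOf M) inferInstance
        (fun h0 => hNb (by rw [← map_subgroupOf_eq_of_le hNM, h0, Subgroup.map_bot]))
      have hcore : m.map M.subtype ≤ (normalizer (L : Set G)).normalCore := by
        rintro _ ⟨x, hx, rfl⟩ g
        have hL' : (L.map (MulAut.conj g⁻¹).toMonoidHom).IsSubnormal := hL.map (MulAut.conj g⁻¹).surjective
        have hle : L.map (MulAut.conj g⁻¹).toMonoidHom ≤ M := by
          rintro _ ⟨l, hl, rfl⟩
          simpa using hM.conj_mem l (hLM hl) g⁻¹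
        have := ih _ hcard M rfl m _ hm1 hm4 (hL'.subgroupOf (K := M)) hx
        rw [mem_normalizer_iff] at this ⊢
        intro y
        by_cases hy : y ∈ M
        · have hy' : g⁻¹ * y * g ∈ M := by simpa using hM.conj_mem y hy g⁻¹
          have h2 := this ⟨g⁻¹ * y * g, hy'⟩
          simp only [mem_subgroupOf, coe_mul, coe_inv, mem_map_equiv, map_inv, MulAut.conj_symm_apply,
            inv_inv, ← MulAut.inv_apply, MulAut.conj_apply] at h2
          simpa [mul_assoc] using h2
        · refine iff_of_false (fun h => hy (hLM h)) (fun h => hy ?_)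
          simpa [mul_assoc] using
            hM.conj_mem _ (hLM h) (g * (x : G) * g⁻¹)⁻¹
      rcases hmin (N ⊓ (normalizer (L : Set G)).normalCore) inferInstance inf_le_left with h0 | h0
      · refine absurd ?_ hm2
        have h1 : m.map M.subtype = ⊥ := eq_bot_iff.2 (h0 ▸ le_inf (by
          refine (map_mono hm3).trans ?_
          rw [map_subgroupOf_eq_of_le hNM]) hcore)
        rwa [map_eq_bot_iff_of_injective _ M.subtype_injective] at h1
      · exact (inf_eq_left.1 h0).trans (normalCore_le _)

/-- Every subgroup of a nilpotent normal subgroup is subnormal. -/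
theorem isSubnormal_of_le_nilpotent {G : Type u} [Group G] [Finite G] {F H : Subgroup G} (hF : F.Normal)
    [Group.IsNilpotent F] (hH : H ≤ F) : H.IsSubnormal := by
  induction k : Nat.card F - Nat.card H using Nat.strong_induction_on generalizing H with
  | _ k ih =>
    rcases eq_or_ne H F with rfl | hne
    · exact hF.isSubnormal
    have hlt : H.subgroupOf F < ⊤ := by
      rw [lt_top_iff_ne_top, Ne, subgroupOf_eq_top]
      exact fun h => hne (le_antisymm hH h)
    have h1 := normalizerCondition_of_isNilpotent (G := F) (H.subgroupOf F) hlt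
    set K := (normalizer (H.subgroupOf F : Set F)).map F.subtype with hK
    have hKF : K ≤ F := map_subtype_le _
    have hHK : H < K := by
      rw [← map_subgroupOf_eq_of_le hH]
      exact (map_lt_map_iff_of_injective F.subtype_injective).2 h1
    have hc : Nat.card H < Nat.card K := by
      refine lt_of_le_of_ne (card_le_of_le hHK.le) fun h => hHK.ne ?_
      exact eq_of_le_of_card_ge hHK.le h.ge
    have hKs := ih (Nat.card F - Nat.card K) (by have := card_le_of_le hKF; omega) hKF rfl
    refine isSubnormal_of_normalized hKs hHK.le ?_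
    refine ((normalizer (H.subgroupOf F : Set F)).map_le_iff_le_comap).2 fun x hx => ?_
    rw [mem_comap, mem_normalizer_iff]
    intro y
    rw [mem_normalizer_iff] at hx
    by_cases hy : y ∈ F
    · simpa [mem_subgroupOf] using hx ⟨y, hy⟩
    · exact iff_of_false (fun h => hy (hH h)) fun h => hy (by
        simpa [mul_assoc] using mul_mem (mul_mem (inv_mem x.2) (hH h)) x.2)

/-- A subnormal `π`-subgroup lies in the `π`-core. -/
theorem le_piCore_of_isSubnormal {G : Type u} [Group G] [Finite G] {A : Subgroup G} (hA : A.IsSubnormal)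
    {π : Set ℕ} (hπ : ∀ p : ℕ, p.Prime → p ∣ Nat.card A → p ∈ π) : A ≤ Cfsg.piCore π G := by
  induction hn : Nat.card G using Nat.strong_induction_on generalizing G with
  | _ n ih =>
    rcases eq_or_ne A ⊤ with rfl | hne
    · exact le_sSup ⟨inferInstance, hπ⟩
    obtain ⟨M, hM, hAM, hMt⟩ := hA.lt_normal.resolve_left hne
    have hcard : Nat.card M < n := by
      refine lt_of_le_of_ne (hn ▸ card_le_card_group M) fun h => hMt.ne ?_
      exact eq_top_of_card_eq M (h.trans hn.symm)
    have h1 := ih _ hcard (G := M) (A := A.subgroupOf M) hA.subgroupOf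
      (fun p hp hd => hπ p hp (by rwa [Nat.card_congr (subgroupOfEquivOfLe hAM).toEquiv] at hd)) rfl
    refine le_trans ?_ (le_sSup (α := Subgroup G) ⟨?_, OddOrder.isPiGrp_piCoreOf π M⟩)
    · rw [← map_subgroupOf_eq_of_le hAM]; exact map_mono h1
    · rw [← normalizer_eq_top_iff, eq_top_iff, ← normalizer_eq_top_iff.2 hM]
      exact OddOrder.normalizer_le_normalizer_piCoreOf π M

end Cfsg.Agent.Components
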