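import Cfsg.Agent.Lib.Components.GenFitting

/-!
`F*(G) ⊓ B = F*(B)` for subnormal `B`, and related facts on the centre of the layer.
-/

namespace Cfsg.Agent.Components

open Subgroup

variable {G : Type*} [Group G]

/-- The centre of a subnormal subgroup lies in the Fitting subgroup. -/
theorem inf_centralizer_le_fittingSubgroup [Finite G] {H : Subgroup G} (hH : H.IsSubnormal) :
    H ⊓ centralizer (H : Set G) ≤ fittingSubgroup G := by
  have hs : (H ⊓ centralizer (H : Set G)).IsSubnormal := by
    refine isSubnormal_of_normalized hH inf_le_left ?_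
    refine (le_inf le_normalizer ?_).trans inf_normalizer_le_normalizer_inf
    rw [le_normalizer_iff]
    intro g hg c hc
    rw [mem_centralizer_iff] at hc ⊢
    intro h hh
    have h1 : g⁻¹ * h * g ∈ (H : Set G) := H.mul_mem (H.mul_mem (H.inv_mem hg) hh) hg
    have := hc _ h1
    calc h * (g * c * g⁻¹) = g * (g⁻¹ * h * g * c) * g⁻¹ := by group
      _ = g * (c * (g⁻¹ * h * g)) * g⁻¹ := by rw [this]
      _ = g * c * g⁻¹ * h := by group
  have : Group.IsNilpotent ↥(H ⊓ centralizer (H : Set G)) := by
    refine isNilpotent_of_commutator_commutator (le_bot_iff.mp ?_)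
    refine (commutator_mono ((commutator_le_self _).trans inf_le_right) inf_le_left).trans ?_
    exact (commutator_eq_bot_iff_le_centralizer.mpr le_rfl).le
  exact le_fittingSubgroup_of_isSubnormal hs

theorem map_generalizedFittingSubgroup_le_of_isSubnormal [Finite G] {H : Subgroup G}
    (hH : H.IsSubnormal) :
    (generalizedFittingSubgroup H).map H.subtype ≤ generalizedFittingSubgroup G := by
  rw [generalizedFittingSubgroup, Subgroup.map_sup]
  exact sup_le_sup (map_layer_le_layer hH) (map_subtype_fittingSubgroup_le_of_isSubnormal hH)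

/-- `F*(G) ⊓ B = F*(B)` for a subnormal subgroup `B` of a finite group `G`. -/
theorem generalizedFittingSubgroup_inf_of_isSubnormal [Finite G] {B : Subgroup G}
    (hB : B.IsSubnormal) :
    generalizedFittingSubgroup G ⊓ B = (generalizedFittingSubgroup B).map B.subtype := by
  refine le_antisymm ?_
    (le_inf (map_generalizedFittingSubgroup_le_of_isSubnormal hB) (map_subtype_le _))
  let E₁ := sSup {K : Subgroup G | IsComponent K ∧ K ≤ B}
  let E₂ := sSup {K : Subgroup G | IsComponent K ∧ ¬ K ≤ B}
  let F := fittingSubgroup G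
  have hsup : generalizedFittingSubgroup G = E₁ ⊔ (E₂ ⊔ F) := by
    have : layer G = E₁ ⊔ E₂ := by
      refine le_antisymm (sSup_le fun K hK => ?_)
        (sup_le (sSup_le fun K hK => IsComponent.le_layer hK.1)
          (sSup_le fun K hK => IsComponent.le_layer hK.1))
      by_cases h : K ≤ B
      · exact le_sup_of_le_left (le_sSup ⟨hK, h⟩)
      · exact le_sup_of_le_right (le_sSup ⟨hK, h⟩)
    rw [generalizedFittingSubgroup, this, sup_assoc]
  have hB2 : ⁅B, E₂⁆ = ⊥ := commutator_sSup_eq_bot fun K hK =>
    commutator_eq_bot_symm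
      ((IsComponent.le_or_commutator_eq_bot hK.1 hB).resolve_left hK.2)
  have hF2 : ⁅F, E₂⁆ = ⊥ := commutator_sSup_eq_bot fun K hK =>
    commutator_eq_bot_symm (IsComponent.commutator_fittingSubgroup hK.1)
  have hE1B : E₁ ≤ B := sSup_le fun K hK => hK.2
  have hnorm : E₂ ⊔ F ≤ normalizer (E₁ : Set G) := by
    refine le_trans ?_ (centralizer_le_normalizer _)
    refine sup_le (sSup_le fun K hK => ?_) ?_
    · refine le_centralizer_of_commutator_eq_bot (commutator_sSup_eq_bot fun L hL => ?_)
      exact IsComponent.commutator_eq_bot hK.1 hL.1 fun h => hK.2 (h ▸ hL.2)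
    · exact le_centralizer_of_commutator_eq_bot (commutator_sSup_eq_bot fun L hL =>
        commutator_eq_bot_symm (IsComponent.commutator_fittingSubgroup hL.1))
  have hE2sub : E₂.IsSubnormal :=
    isSubnormal_of_normalized (inferInstance : (layer G).Normal).isSubnormal
      (sSup_le fun K hK => IsComponent.le_layer hK.1)
      (sSup_le fun L hL => by
        by_cases h : L ≤ B
        · refine le_trans ?_ (centralizer_le_normalizer _)
          refine le_centralizer_of_commutator_eq_bot (commutator_sSup_eq_bot fun K hK => ?_)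
          exact IsComponent.commutator_eq_bot hL hK.1 fun e => hK.2 (e ▸ h)
        · exact (le_sSup (show L ∈ {K : Subgroup G | IsComponent K ∧ ¬ K ≤ B} from ⟨hL, h⟩) :
            L ≤ E₂).trans le_normalizer)
  have hkey : (E₂ ⊔ F) ⊓ B ≤ F ⊓ B := by
    refine le_inf (fun y hy => ?_) inf_le_right
    obtain ⟨e, he, f, hf, rfl⟩ := mem_sup_of_normal_right.mp hy.1
    have h1 : e * f ∈ centralizer (E₂ : Set G) := le_centralizer_of_commutator_eq_bot hB2 hy.2
    have h2 : f ∈ centralizer (E₂ : Set G) := le_centralizer_of_commutator_eq_bot hF2 hf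
    exact F.mul_mem (inf_centralizer_le_fittingSubgroup hE2sub
      ⟨he, (mul_mem_cancel_right h2).mp h1⟩) hf
  intro x hx
  rw [hsup] at hx
  obtain ⟨hx, hxB⟩ := mem_inf.mp hx
  rw [← SetLike.mem_coe, coe_mul_of_right_le_normalizer_left _ _ hnorm] at hx
  obtain ⟨a, ha, y, hy, rfl⟩ := hx
  have hyB : y ∈ B := (mul_mem_cancel_left (hE1B ha)).mp hxB
  have hyF := hkey ⟨hy, hyB⟩
  rw [generalizedFittingSubgroup, Subgroup.map_sup]
  refine mul_mem_sup ?_ ?_
  · refine (sSup_le fun K hK => ?_ : E₁ ≤ (layer B).map B.subtype) ha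
    rw [← map_subgroupOf_eq_of_le hK.2]
    exact map_mono (IsComponent.le_layer (IsComponent.subgroupOf_of_le hK.1 hK.2))
  · have hn : Group.IsNilpotent ↥((fittingSubgroup G ⊓ B).subgroupOf B) :=
      (Group.isNilpotent_congr (subgroupOfEquivOfLe inf_le_right)).mpr
        ((Group.isNilpotent_congr (subgroupOfEquivOfLe inf_le_left)).mp (Subgroup.isNilpotent _))
    have hnor : ((fittingSubgroup G ⊓ B).subgroupOf B).Normal :=
      normal_subgroupOf_of_le_normalizer
        ((le_inf (normalizer_eq_top (H := fittingSubgroup G) ▸ le_top) le_normalizer).trans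
          inf_normalizer_le_normalizer_inf)
    exact ⟨⟨y, hyB⟩, le_fittingSubgroup hnor (mem_subgroupOf.mpr hyF), rfl⟩

end Cfsg.Agent.Components
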