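import Cfsg.Agent.Lib.Balance.KBalance
import Cfsg.Agent.Lib.Balance.LBalance
import Cfsg.Prelude.Def_Balance

/-!
Local `k`-balance passes from `K / Z(K)` to a quasisimple group `K`; local balance gives `k`-balance.
-/

namespace Cfsg.Agent.Components

open Subgroup
open scoped commutatorElement

variable {G G' : Type*} [Group G] [Group G'] {p : ℕ}

/-- An automorphism of a perfect group trivial modulo the centre is trivial. -/
theorem autModCenter_injective {K : Type*} [Group K] [hK : Group.IsPerfect K] :
    Function.Injective (Balance.autModCenter K) := by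
  rw [injective_iff_map_eq_one]
  intro e he
  have hc : ∀ x : K, x⁻¹ * e x ∈ center K := fun x => by
    have h1 : Balance.autModCenter K e (QuotientGroup.mk x) = QuotientGroup.mk x := by rw [he]; rfl
    rw [Balance.autModCenter_mk] at h1
    exact (QuotientGroup.eq).mp h1.symm
  have hfix : _root_.commutator K ≤ MonoidHom.eqLocus e.toMonoidHom (MonoidHom.id K) := by
    rw [_root_.commutator_def, Subgroup.commutator_le]
    intro a _ b _
    show e ⁅a, b⁆ = ⁅a, b⁆
    have key : ∀ z w : K, z ∈ center K → w ∈ center K → ⁅a * z, b * w⁆ = ⁅a, b⁆ := by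
      intro z w hz hw
      have e1 : ⁅z, b * w⁆ = 1 :=
        commutatorElement_eq_one_iff_mul_comm.mpr (mem_center_iff.mp hz _).symm
      have e2 : ⁅a, w⁆ = 1 := commutatorElement_eq_one_iff_mul_comm.mpr (mem_center_iff.mp hw a)
      rw [commutatorElement_mul_left_eq_conj_mul, e1, commutatorElement_mul_right_eq_mul_conj, e2]
      group
    rw [map_commutatorElement, show e a = a * (a⁻¹ * e a) by group,
      show e b = b * (b⁻¹ * e b) by group, key _ _ (hc a) (hc b)]
  rw [hK.commutator_eq_top] at hfix
  exact MulEquiv.ext fun x => hfix (mem_top x)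

theorem map_signalizerDelta_le [Finite G] [Finite G'] [Fact p.Prime] (e : G ≃* G') {A : Subgroup G}
    (hA : Cfsg.IsElementaryAbelian p A) :
    (signalizerDelta p A).map e.toMonoidHom ≤ signalizerDelta p (A.map e.toMonoidHom) := by
  rintro _ ⟨d, hd, rfl⟩
  refine Balance.map_mem_signalizerDelta e.toMonoidHom e.surjective ?_ hA hd
  rw [MonoidHom.ker_eq_bot_iff _ |>.mpr e.injective, card_bot]
  exact Nat.coprime_one_left p

/-- Local `k`-balance of `K / Z(K)` gives local `k`-balance of a perfect group `K`. -/
theorem isLocallyKBalanced_of_quotient_center {K : Type*} [Group K] [Finite K] [Group.IsPerfect K]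
    [Fact p.Prime] {k : ℕ} (h : IsLocallyKBalanced p k (K ⧸ center K)) :
    IsLocallyKBalanced p k K := by
  intro H hH A hA hAk
  let H' := H.map (Balance.autModCenter K)
  let e : H ≃* H' := H.equivMapOfInjective _ autModCenter_injective
  have hinn : (MulAut.conj : K ⧸ center K →* MulAut (K ⧸ center K)).range ≤ H' := by
    rintro _ ⟨x, rfl⟩
    induction x using QuotientGroup.induction_on with
    | H y =>
      refine ⟨MulAut.conj y, hH ⟨y, rfl⟩, ?_⟩
      ext z
      induction z using QuotientGroup.induction_on with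
      | H w => rfl
  have h1 := h H' hinn (A.map e.toMonoidHom) (Balance.isElementaryAbelian_map hA _)
    (by rw [card_map_of_injective e.injective, hAk])
  have h2 := (map_signalizerDelta_le e hA).trans h1.le
  rwa [le_bot_iff, Subgroup.map_eq_bot_iff, (MonoidHom.ker_eq_bot_iff _).mpr e.injective, le_bot_iff] at h2

/-- The signalizer `Δ` meets a subgroup `C ≥ A` inside the `Δ` of `C`. -/
theorem mem_signalizerDelta_subgroupOf [Finite G] [Fact p.Prime] {A C : Subgroup G} {d : G}
    (hd : d ∈ signalizerDelta p A) (hdC : d ∈ C) :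
    (⟨d, hdC⟩ : C) ∈ signalizerDelta p (A.subgroupOf C) := by
  rw [Balance.mem_signalizerDelta_iff]
  intro a ha ha1
  have hd' := Balance.mem_signalizerDelta_iff.mp hd a ha (fun he => ha1 (Subtype.ext he))
  set D := (Balance.core' p (centralizer ({(a : G)} : Set G))).subgroupOf C
  refine Balance.le_core' (R := D) ?_ ?_ ?_ (show (⟨d, hdC⟩ : C) ∈ D from hd')
  · intro y hy
    refine mem_centralizer_singleton_iff.mpr (Subtype.ext ?_)
    exact mem_centralizer_singleton_iff.mp (Balance.core'_le _ (mem_subgroupOf.mp hy))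
  · intro y hy
    have hy' : (y : G) ∈ centralizer ({(a : G)} : Set G) :=
      mem_centralizer_singleton_iff.mpr (congrArg Subtype.val (mem_centralizer_singleton_iff.mp hy))
    refine mem_normalizer_iff.mpr fun z => ?_
    simp only [D, mem_subgroupOf, Subgroup.coe_mul, InvMemClass.coe_inv]
    exact mem_normalizer_iff.mp (Balance.le_normalizer_core' _ hy') z
  · exact (Balance.card_core'_coprime _).coprime_dvd_left
      (card_comap_dvd_of_injective _ _ C.subtype_injective)

/-- Local `k`-balance of the components of every `C(b) / O_{p'}` gives `k`-balance. -/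
theorem mem_centralizerPPrimeCore_of_mem_signalizerDelta [Finite G] [hp : Fact p.Prime] {k : ℕ}
    (hk : 1 ≤ k) {A : Subgroup G} (hA : Cfsg.IsElementaryAbelian p A) (hAk : Nat.card A = p ^ k)
    {b d : G} (hb : ∀ a ∈ A, a * b = b * a) (hd : d ∈ signalizerDelta p A)
    (hdb : d ∈ centralizer ({b} : Set G))
    (h : ∀ K : Subgroup (↥(centralizer ({b} : Set G)) ⧸ pPrimeCore p ↥(centralizer ({b} : Set G))),
      IsComponent K → IsLocallyKBalanced p k (↥K ⧸ center ↥K)) :
    d ∈ centralizerPPrimeCore p b := by
  set C := centralizer ({b} : Set G)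
  have hAC : A ≤ C := fun a ha => mem_centralizer_singleton_iff.mpr (hb a ha)
  have hA' : Cfsg.IsElementaryAbelian p (A.subgroupOf C) := by
    refine ⟨⟨⟨fun x y => ?_⟩⟩, fun x hx => Subtype.ext (by simpa using hA.2 _ hx)⟩
    have := congrArg Subtype.val (hA.1.is_comm.comm ⟨((x : C) : G), x.2⟩ ⟨((y : C) : G), y.2⟩)
    exact Subtype.ext (Subtype.ext this)
  set f := QuotientGroup.mk' (pPrimeCore p C)
  have hker : (Nat.card f.ker).Coprime p := by
    rw [QuotientGroup.ker_mk']; exact PCore.coprime_card_pPrimeCore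
  have hmem := Balance.map_mem_signalizerDelta f (QuotientGroup.mk'_surjective _) hker hA'
    (mem_signalizerDelta_subgroupOf hd hdb)
  have hcard : Nat.card ↥((A.subgroupOf C).map f) = p ^ k := by
    have hinj : Function.Injective (f.domRestrict (A.subgroupOf C)) := by
      rw [← MonoidHom.ker_eq_bot_iff, MonoidHom.ker_domRestrict, subgroupOf_eq_bot, disjoint_iff,
        ← card_eq_one]
      have h1 : Nat.card ↥(f.ker ⊓ A.subgroupOf C) ∣ p ^ k := by
        rw [← hAk, ← Nat.card_congr (subgroupOfEquivOfLe hAC).toEquiv]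
        exact card_dvd_of_le inf_le_right
      exact Nat.eq_one_of_dvd_coprimes (hker.pow_right k) (card_dvd_of_le inf_le_left) h1
    rw [← hAk, ← Nat.card_congr (subgroupOfEquivOfLe hAC).toEquiv, ← MonoidHom.domRestrict_range,
      Nat.card_congr (MonoidHom.ofInjective hinj).toEquiv.symm]
  have hne : (A.subgroupOf C).map f ≠ ⊥ := by
    intro he
    rw [he, card_bot] at hcard
    exact absurd hcard.symm (Nat.one_lt_pow (by omega) hp.out.one_lt).ne'
  have hloc : ∀ K : Subgroup (C ⧸ pPrimeCore p C), IsComponent K → IsLocallyKBalanced p k ↥K :=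
    fun K hK => by
      have := hK.2.1
      exact isLocallyKBalanced_of_quotient_center (h K hK)
  rw [Balance.signalizerDelta_eq_bot PCore.pPrimeCore_quotient_self_eq_bot hloc
    (Balance.isElementaryAbelian_map hA' f) hne hcard, mem_bot] at hmem
  exact ⟨⟨d, hdb⟩, (QuotientGroup.eq_one_iff _).mp hmem, rfl⟩

/-- Local balance is local `1`-balance at the prime `2`. -/
theorem isLocallyKBalanced_one_of_isLocallyBalanced {K : Type*} [Group K] [Finite K]
    (h : IsLocallyBalanced K) : IsLocallyKBalanced 2 1 K := by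
  intro H hH B hB hBk
  have : Fact (Nat.Prime 2) := ⟨Nat.prime_two⟩
  have hdvd : 2 ∣ Nat.card B := ⟨1, by rw [hBk, pow_one, mul_one]⟩
  obtain ⟨t, ht⟩ := exists_prime_orderOf_dvd_card' (G := B) 2 hdvd
  have ht' : orderOf (t : H) = 2 := (Subgroup.orderOf_coe t).trans ht
  have hne : (t : H) ≠ 1 := fun he => by
    rw [he, orderOf_one] at ht'
    exact absurd ht' (by decide)
  refine le_bot_iff.mp ?_
  rw [← h H hH (t : H) ht', signalizerDelta]
  exact iInf_le (fun a : {a : H // a ∈ B ∧ a ≠ 1} => centralizerPPrimeCore 2 (a : H)) ⟨(t : H), t.2, hne⟩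

end Cfsg.Agent.Components
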