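import Cfsg.Agent.Lib.Components.Inf
import Cfsg.Agent.Lib.Coprime.Commutator

/-!
A `p`-group acting on a group `L` with `L = F*(L)` and `F(L)` of order prime to `p`
(as for subnormal subgroups of `F*(H)` when `O_p(H) = 1`): `L = [L, Y] C_L(Y)`, `[L, Y, Y] = [L, Y]`.
-/

namespace Cfsg.Agent.Components

open Subgroup
open scoped commutatorElement

variable {G G' : Type*} [Group G] [Group G'] {p : ℕ}

/-- If `O_p(G) = 1` then `F(G)` has order prime to `p`. -/
theorem coprime_card_fittingSubgroup [Finite G] [hp : Fact p.Prime] (h : pCore p G = ⊥) :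
    (Nat.card (fittingSubgroup G)).Coprime p := by
  refine (hp.out.coprime_iff_not_dvd.mpr fun hd => ?_).symm
  let P : Sylow p (fittingSubgroup G) := default
  have hc : (P : Subgroup (fittingSubgroup G)).Characteristic :=
    P.characteristic_of_normal inferInstance
  have hle : (P : Subgroup (fittingSubgroup G)).map (fittingSubgroup G).subtype ≤ pCore p G :=
    le_sSup ⟨ConjAct.normal_of_characteristic_of_normal, P.isPGroup'.map _⟩
  rw [h, le_bot_iff, Subgroup.map_eq_bot_iff, (fittingSubgroup G).ker_subtype, le_bot_iff] at hle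
  exact P.ne_bot_of_dvd_card hd hle

theorem coprime_card_of_isPGroup [Finite G] [hp : Fact p.Prime] {Y : Subgroup G}
    (hY : IsPGroup p Y) {n : ℕ} (hn : n.Coprime p) : (Nat.card Y).Coprime n := by
  obtain ⟨k, hk⟩ := hY.exists_card_eq
  rw [hk]
  exact hn.symm.pow_left k

/-- A subnormal subgroup of `H` lying in `F*(H)` is its own `F*`, and its Fitting subgroup
lies in `F(H)`. -/
theorem genFitting_subnormal_data [Finite G] {L : Subgroup G} (hL : L.IsSubnormal)
    (hle : L ≤ generalizedFittingSubgroup G) :
    generalizedFittingSubgroup L = ⊤ ∧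
      Nat.card (fittingSubgroup L) ∣ Nat.card (fittingSubgroup G) := by
  constructor
  · have h := generalizedFittingSubgroup_inf_of_isSubnormal hL
    rw [inf_eq_right.mpr hle] at h
    rw [← map_subtype_inj, ← h, ← MonoidHom.range_eq_map, range_subtype]
  · rw [← card_map_of_injective L.subtype_injective]
    exact card_dvd_of_le (map_subtype_fittingSubgroup_le_of_isSubnormal hL)

theorem genFitting_data_congr (e : G ≃* G')
    (h : generalizedFittingSubgroup G = ⊤) {n : ℕ} (hn : Nat.card (fittingSubgroup G) ∣ n) :
    generalizedFittingSubgroup G' = ⊤ ∧ Nat.card (fittingSubgroup G') ∣ n := by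
  constructor
  · rw [← map_generalizedFittingSubgroup e, h, map_top_of_surjective _ e.surjective]
  · rwa [← map_fittingSubgroup e, card_map_of_injective e.injective]

/-- If `L = A C_L(Y)` with `A` normalised by `L`, then `[L, Y] ≤ [A, Y]`. -/
theorem commutator_le_of_sup_centralizer {L A Y : Subgroup G}
    (hA : L ≤ normalizer (A : Set G)) (h : A ⊔ (L ⊓ centralizer (Y : Set G)) = L) :
    ⁅L, Y⁆ ≤ ⁅A, Y⁆ := by
  refine commutator_le.mpr fun l hl y hy => ?_
  have hl' : l ∈ ((A ⊔ (L ⊓ centralizer (Y : Set G)) : Subgroup G) : Set G) := by rw [h]; exact hl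
  rw [coe_mul_of_right_le_normalizer_left _ _ (inf_le_left.trans hA)] at hl'
  obtain ⟨a, ha, c, hc, rfl⟩ := hl'
  have e : ⁅c, y⁆ = 1 :=
    commutatorElement_eq_one_iff_mul_comm.mpr (mem_centralizer_iff.mp (mem_inf.mp hc).2 y hy).symm
  rw [commutatorElement_mul_left_eq_conj_mul, e, mul_one, mul_inv_cancel, one_mul]
  exact commutator_mem_commutator ha hy

/-- A `p`-group `Y` acting on `L = F*(L)` with `F(L)` of order prime to `p`:
`L = [L, Y] C_L(Y)` and `[L, Y] = [L, Y, Y]`. -/
theorem commutator_sup_centralizer_of_genFitting [Finite G] [Fact p.Prime] {L Y : Subgroup G}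
    (htop : generalizedFittingSubgroup L = ⊤) (hF : (Nat.card (fittingSubgroup L)).Coprime p)
    (hY : IsPGroup p Y) (hYL : Y ≤ normalizer (L : Set G)) :
    ⁅L, Y⁆ ⊔ (L ⊓ centralizer (Y : Set G)) = L ∧ ⁅L, Y⁆ = ⁅⁅L, Y⁆, Y⁆ := by
  have hle : ⁅L, Y⁆ ≤ L := le_normalizer_iff_commutator_le_left.mp hYL
  have h1 : ⁅L, Y⁆ ⊔ (L ⊓ centralizer (Y : Set G)) = L := by
    refine le_antisymm (sup_le hle inf_le_left) ?_
    have hmap : L = (generalizedFittingSubgroup L).map L.subtype := by
      rw [htop, ← MonoidHom.range_eq_map, range_subtype]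
    conv_lhs => rw [hmap, generalizedFittingSubgroup, Subgroup.map_sup]
    refine sup_le ?_ ?_
    · rw [map_le_iff_le_comap]
      refine sSup_le fun K hK => map_le_iff_le_comap.mp ?_
      have hN : ((⁅L, Y⁆).subgroupOf L).Normal :=
        normal_subgroupOf_of_le_normalizer (normalizer_commutator_ge_left L Y)
      rcases IsComponent.le_or_commutator_eq_bot_of_normal hK ((⁅L, Y⁆).subgroupOf L) with h | h
      · refine le_sup_of_le_left ((Subgroup.map_mono h).trans ?_)
        rw [map_subgroupOf_eq_of_le hle]
      · have h' := congrArg (Subgroup.map L.subtype) h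
        rw [map_commutator, Subgroup.map_bot, map_subgroupOf_eq_of_le hle] at h'
        refine le_sup_of_le_right (le_inf (map_subtype_le K) (le_centralizer_of_commutator_eq_bot ?_))
        refine commutator_eq_bot_of_commutator_commutator
          (IsQuasisimple.map_injective hK.2 L.subtype_injective).1 (le_bot_iff.mp ?_)
        rw [← commutator_eq_bot_symm h']
        exact commutator_mono ((commutator_comm _ _).le.trans
          (commutator_mono (map_subtype_le K) le_rfl)) le_rfl
    · set F := (fittingSubgroup L).map L.subtype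
      have hYF : Y ≤ normalizer (F : Set G) :=
        hYL.trans (normalizer_le_normalizer_map_of_characteristic L _)
      have hcop : (Nat.card Y).Coprime (Nat.card F) := by
        refine coprime_card_of_isPGroup hY ?_
        rwa [card_map_of_injective L.subtype_injective]
      have : Group.IsNilpotent Y := hY.isNilpotent
      conv_lhs => rw [← Coprime.commutator_sup_centralizer hYF hcop (Or.inl inferInstance)]
      exact sup_le_sup (commutator_mono (map_subtype_le _) le_rfl)
        (inf_le_inf_right _ (map_subtype_le _))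
  refine ⟨h1, le_antisymm (commutator_le_of_sup_centralizer ?_ h1)
    (commutator_mono hle le_rfl)⟩
  exact normalizer_commutator_ge_left L Y

/-- `F*(G) = [F*(G), Y] C(Y)` and `[F*(G), Y, Y] = [F*(G), Y]` for a `p`-subgroup `Y`, `O_p(G) = 1`. -/
theorem commutator_genFitting_data [Finite G] [Fact p.Prime] (hO : pCore p G = ⊥) {Y : Subgroup G}
    (hY : IsPGroup p Y) :
    ⁅generalizedFittingSubgroup G, Y⁆ ⊔ (generalizedFittingSubgroup G ⊓ centralizer (Y : Set G)) =
        generalizedFittingSubgroup G ∧
      ⁅generalizedFittingSubgroup G, Y⁆ = ⁅⁅generalizedFittingSubgroup G, Y⁆, Y⁆ := by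
  obtain ⟨h1, h2⟩ := genFitting_subnormal_data
    (generalizedFittingSubgroup_normal G).isSubnormal le_rfl
  exact commutator_sup_centralizer_of_genFitting h1
    ((coprime_card_fittingSubgroup hO).coprime_dvd_left h2) hY
    (by rw [normalizer_eq_top]; exact le_top)

/-- A `p`-subgroup `Y` acting quadratically trivially on `F*(G)` is trivial when `O_p(G) = 1`. -/
theorem eq_bot_of_commutator_genFitting [Finite G] [Fact p.Prime] (hO : pCore p G = ⊥)
    {Y : Subgroup G} (hY : IsPGroup p Y)
    (h : ⁅⁅generalizedFittingSubgroup G, Y⁆, Y⁆ = ⊥) : Y = ⊥ := by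
  have h1 : ⁅generalizedFittingSubgroup G, Y⁆ = ⊥ := (commutator_genFitting_data hO hY).2.trans h
  have h2 : Y ≤ centralizer (generalizedFittingSubgroup G : Set G) :=
    le_centralizer_of_commutator_eq_bot (commutator_eq_bot_symm h1)
  have h3 : Y ≤ fittingSubgroup G := by
    set S := generalizedFittingSubgroup G
    exact (le_inf (h2.trans centralizer_generalizedFittingSubgroup_le) h2).trans
      (inf_centralizer_le_fittingSubgroup (generalizedFittingSubgroup_normal G).isSubnormal)
  have h4 : (Nat.card Y).Coprime (Nat.card Y) :=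
    coprime_card_of_isPGroup hY ((coprime_card_fittingSubgroup hO).coprime_dvd_left (card_dvd_of_le h3))
  exact card_eq_one.mp ((Nat.coprime_self _).mp h4)

end Cfsg.Agent.Components
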