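import Cfsg.Agent.Lib.Components.PAction
import Cfsg.Agent.Lib.PGroup.Basic
import Mathlib.GroupTheory.Frattini
import Mathlib.GroupTheory.Abelianization.Defs

/-!
Auxiliary lemmas on `p`-groups acting on normal subgroups: fixed elements of order `p`,
fixed central elements of `[L, Q] = L`, and translations by coprime central subgroups.
-/

namespace Cfsg.Agent.Components

open Subgroup
open scoped commutatorElement

variable {G : Type*} [Group G] {p : ℕ}

theorem normalizer_le_normalizer_centralizer' (N : Subgroup G) :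
    normalizer (N : Set G) ≤ normalizer ((centralizer (N : Set G) : Subgroup G) : Set G) := by
  rw [le_normalizer_iff]
  intro g hg c hc
  refine mem_centralizer_iff.mpr fun n hn => ?_
  have h1 : g⁻¹ * n * g ∈ (N : Set G) := (mem_normalizer_iff''.mp hg n).mp hn
  calc n * (g * c * g⁻¹) = g * ((g⁻¹ * n * g) * c) * g⁻¹ := by group
    _ = g * (c * (g⁻¹ * n * g)) * g⁻¹ := by rw [mem_centralizer_iff.mp hc _ h1]
    _ = g * c * g⁻¹ * n := by group

theorem inf_normalizer_le_normalizer_sup' (A B : Subgroup G) :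
    normalizer (A : Set G) ⊓ normalizer (B : Set G) ≤ normalizer ((A ⊔ B : Subgroup G) : Set G) := by
  rw [sup_eq_closure]
  refine le_normalizer_closure_iff.mpr ?_
  rintro g ⟨hA, hB⟩ x (hx | hx)
  · exact Subgroup.subset_closure (Or.inl ((mem_normalizer_iff.mp hA x).mp hx))
  · exact Subgroup.subset_closure (Or.inr ((mem_normalizer_iff.mp hB x).mp hx))

theorem inf_normalizer_le_normalizer_commutator' (A B : Subgroup G) :
    normalizer (A : Set G) ⊓ normalizer (B : Set G) ≤ normalizer ((⁅A, B⁆ : Subgroup G) : Set G) := by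
  rw [Subgroup.commutator_def]
  refine le_normalizer_closure_iff.mpr ?_
  rintro g ⟨hA, hB⟩ _ ⟨a, ha, b, hb, rfl⟩
  rw [conjugate_commutatorElement]
  exact Subgroup.subset_closure
    ⟨_, (mem_normalizer_iff.mp hA a).mp ha, _, (mem_normalizer_iff.mp hB b).mp hb, rfl⟩

/-- A central element of `G` lying in the derived subgroup lies in the Frattini subgroup. -/
theorem mem_frattini_of_central [Finite G] (z : G) (hz : z ∈ center G) (hz' : z ∈ _root_.commutator G) :
    z ∈ frattini G := by
  rw [frattini, Order.radical, mem_iInf]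
  intro M
  rw [mem_iInf]
  intro hM
  by_contra hzM
  have hsup : M ⊔ zpowers z = ⊤ := hM.2 _ (left_lt_sup.mpr fun h => hzM (h (mem_zpowers z)))
  have hn : M.Normal := by
    rw [← normalizer_eq_top_iff, eq_top_iff, ← hsup]
    refine sup_le le_normalizer (le_trans ?_ (centralizer_le_normalizer _))
    exact (zpowers_le.mpr hz).trans (center_le_centralizer _)
  exact hzM (Normal.commutator_le_of_self_sup_commutative_eq_top hsup inferInstance hz')

/-- Translations of `L` into a coprime central subgroup by a `p`-group are trivial. -/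
theorem commutator_eq_bot_of_translate [Finite G] [hp : Fact p.Prime] {L B D : Subgroup G}
    (hB : IsPGroup p B) (hD : (Nat.card D).Coprime p) (h : ⁅L, B⁆ ≤ D)
    (hc : D ≤ L ⊓ centralizer (L : Set G)) (hder : D ≤ ⁅L, L⁆) : ⁅L, B⁆ = ⊥ := by
  refine le_bot_iff.mp (commutator_le.mpr fun l hl b hb => ?_)
  rw [mem_bot, commutatorElement_eq_one_iff_commute]
  -- `b` centralises `[L, L] ⊇ D`, as it moves elements of `L` only by central elements
  have hbL : ⁅L, L⁆ ≤ centralizer ({b} : Set G) := by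
    refine commutator_le.mpr fun x hx y hy => mem_centralizer_singleton_iff.mpr ?_
    have hx' := h (commutator_mem_commutator hx hb)
    have hy' := h (commutator_mem_commutator hy hb)
    have key : ∀ d e : G, d ∈ D → e ∈ D → ⁅d * x, e * y⁆ = ⁅x, y⁆ := by
      intro d e hd he
      have hdc := mem_centralizer_iff.mp (mem_inf.mp (hc hd)).2
      have hec := mem_centralizer_iff.mp (mem_inf.mp (hc he)).2
      have hxy : ⁅x, y⁆ ∈ L := L.commutator_le_self (commutator_mem_commutator hx hy)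
      have e1 : ⁅d, e * y⁆ = 1 := commutatorElement_eq_one_iff_mul_comm.mpr
        (hdc (e * y) (L.mul_mem (mem_inf.mp (hc he)).1 hy)).symm
      have e2 : ⁅x, e⁆ = 1 := commutatorElement_eq_one_iff_mul_comm.mpr (hec x hx)
      rw [commutatorElement_mul_left_eq_conj_mul, e1, mul_one,
        commutatorElement_mul_right_eq_mul_conj, e2, one_mul]
      have e3 : e * ⁅x, y⁆ = ⁅x, y⁆ * e := (hec _ hxy).symm
      rw [e3, mul_inv_cancel_right, ← hdc _ hxy, mul_inv_cancel_right]
    have hbc : ∀ z : G, b * z * b⁻¹ = ⁅z, b⁆⁻¹ * z := fun z => by simp [commutatorElement_def, mul_assoc]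
    have h1 : b * ⁅x, y⁆ * b⁻¹ = ⁅x, y⁆ := by
      rw [conjugate_commutatorElement, hbc x, hbc y]
      exact key _ _ (inv_mem hx') (inv_mem hy')
    exact mul_inv_eq_iff_eq_mul.mp h1 |>.symm
  have hbD : ∀ d ∈ D, b * d * b⁻¹ = d := fun d hd => by
    rw [← mem_centralizer_singleton_iff.mp (hbL (hder hd)), mul_inv_cancel_right]
  have hd : ⁅b, l⁆ ∈ D := by
    have := inv_mem (h (commutator_mem_commutator hl hb))
    rwa [commutatorElement_inv] at this
  obtain ⟨k, hk⟩ := hB ⟨b, hb⟩
  have hbk : b ^ p ^ k = 1 := congrArg Subtype.val hk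
  have hiter : ∀ n : ℕ, b ^ n * l * (b ^ n)⁻¹ = ⁅b, l⁆ ^ n * l := by
    intro n
    induction n with
    | zero => simp
    | succ n ih =>
      have e : b ^ (n + 1) * l * (b ^ (n + 1))⁻¹ = b * (b ^ n * l * (b ^ n)⁻¹) * b⁻¹ := by
        rw [pow_succ']; group
      rw [e, ih, show b * (⁅b, l⁆ ^ n * l) * b⁻¹ = (b * ⁅b, l⁆ ^ n * b⁻¹) * (b * l * b⁻¹) by group,
        hbD _ (pow_mem hd n), show b * l * b⁻¹ = ⁅b, l⁆ * l by simp [commutatorElement_def],
        ← mul_assoc, pow_succ]
  have h1 := hiter (p ^ k)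
  rw [hbk, one_mul, inv_one, mul_one] at h1
  have h2 : orderOf ⁅b, l⁆ ∣ p ^ k := orderOf_dvd_of_pow_eq_one (mul_eq_right.mp h1.symm)
  have h3 : orderOf ⁅b, l⁆ ∣ Nat.card D := Subgroup.orderOf_dvd_natCard _ hd
  have h4 : ⁅b, l⁆ = 1 := orderOf_eq_one_iff.mp (Nat.eq_one_of_dvd_coprimes (hD.pow_right k) h3 h2)
  exact (commutatorElement_eq_one_iff_commute.mp h4).symm

/-- If `L = [L, Q]` then elements of `L` fixed by the coprime `Q` lie in the derived subgroup. -/
theorem mem_commutator_of_fixed [Finite G] {L Q : Subgroup G} (hQL : Q ≤ normalizer (L : Set G))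
    (hLQ : ⁅L, Q⁆ = L) {d : G} (hd : d ∈ L) (hfix : ∀ q ∈ Q, d * q = q * d)
    (hcop : (orderOf d).Coprime (Nat.card Q)) : d ∈ ⁅L, L⁆ := by
  classical
  have := Fintype.ofFinite Q
  let e := subgroupOfEquivOfLe (le_normalizer (H := L))
  let c : Q → (L →* L) := fun q => e.toMonoidHom.comp
    ((MulAut.conjNormal (H := L.subgroupOf (normalizer (L : Set G))) ⟨q, hQL q.2⟩).toMonoidHom.comp
      e.symm.toMonoidHom)
  have hc : ∀ (q : Q) (x : L), ((c q x : L) : G) = q * x * (q : G)⁻¹ := fun q x => rfl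
  let N : L →* Abelianization L := ∏ q : Q, Abelianization.of.comp (c q)
  have hN : ∀ x : L, N x = ∏ q : Q, Abelianization.of (c q x) := fun x => MonoidHom.finsetProd_apply _ _ _
  have htriv : N = 1 := by
    refine MonoidHom.ext fun x => ?_
    have hle : ⁅L, Q⁆ ≤ N.ker.map L.subtype := by
      refine commutator_le.mpr fun l hl q hq => ?_
      have hm : q * l⁻¹ * q⁻¹ ∈ L := (mem_normalizer_iff.mp (hQL hq) _).mp (L.inv_mem hl)
      refine ⟨⟨l, hl⟩ * ⟨q * l⁻¹ * q⁻¹, hm⟩, ?_, ?_⟩
      · rw [SetLike.mem_coe, MonoidHom.mem_ker, map_mul]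
        have : (⟨q * l⁻¹ * q⁻¹, hm⟩ : L) = c ⟨q, hq⟩ ⟨l⁻¹, L.inv_mem hl⟩ := Subtype.ext rfl
        rw [this, hN, hN]
        have hshift : ∏ r : Q, Abelianization.of (c r (c ⟨q, hq⟩ ⟨l⁻¹, L.inv_mem hl⟩)) =
            ∏ r : Q, Abelianization.of (c r ⟨l⁻¹, L.inv_mem hl⟩) := by
          refine Fintype.prod_equiv (Equiv.mulRight (⟨q, hq⟩ : Q)) _ _ fun r => ?_
          congr 1
          ext
          simp [hc, mul_assoc]
        rw [hshift, ← Finset.prod_mul_distrib]
        refine Finset.prod_eq_one fun r _ => ?_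
        rw [← map_mul, ← map_mul]
        simp only [show (⟨l, hl⟩ : L) * ⟨l⁻¹, L.inv_mem hl⟩ = 1 from Subtype.ext (mul_inv_cancel l),
          map_one]
      · simp [commutatorElement_def, mul_assoc]
    obtain ⟨y, hy, hyx⟩ := hle (hLQ.ge x.2)
    rwa [show x = y from Subtype.ext hyx.symm]
  have h1 : Abelianization.of (⟨d, hd⟩ : L) ^ Nat.card Q = 1 := by
    have h0 := DFunLike.congr_fun htriv (⟨d, hd⟩ : L)
    rw [hN, MonoidHom.one_apply] at h0
    rw [← h0, Nat.card_eq_fintype_card, ← Finset.card_univ, ← Finset.prod_const]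
    refine Finset.prod_congr rfl fun q _ => ?_
    congr 1
    ext
    rw [hc]
    show d = (q : G) * d * (q : G)⁻¹
    rw [← hfix q q.2, mul_inv_cancel_right]
  have h2 : orderOf (Abelianization.of (⟨d, hd⟩ : L)) ∣ orderOf d := by
    refine (orderOf_map_dvd _ _).trans ?_
    rw [← Subgroup.orderOf_coe]
  have h3 := Nat.eq_one_of_dvd_coprimes hcop h2 (orderOf_dvd_of_pow_eq_one h1)
  rw [orderOf_eq_one_iff] at h3
  rw [← L.map_subtype_commutator]
  exact ⟨⟨d, hd⟩, (QuotientGroup.eq_one_iff _).mp h3, rfl⟩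

/-- A `p`-group normalising a subgroup `C` with `p ∣ |C|` fixes an element of order `p` of `C`. -/
theorem exists_fixed_element_of_dvd [Finite G] [hp : Fact p.Prime] {Q C : Subgroup G}
    (hQ : IsPGroup p Q) (hQC : Q ≤ normalizer (C : Set G)) (hd : p ∣ Nat.card C) :
    ∃ x ∈ C, (∀ q ∈ Q, q * x = x * q) ∧ orderOf x = p := by
  set W := normalizer (C : Set G) with hWdef
  obtain ⟨P, hP⟩ := (hQ.of_equiv (subgroupOfEquivOfLe hQC).symm).exists_le_sylow
  set C' := C.subgroupOf W with hC'def
  have hC'n : C'.Normal := normal_in_normalizer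
  have hne : C'.subgroupOf (P : Subgroup W) ≠ ⊥ := by
    intro h
    have h1 : C'.relIndex (P : Subgroup W) = Nat.card (P : Subgroup W) := by
      rw [relIndex, h, index_bot]
    have h2 : Nat.card C' * Nat.card (P : Subgroup W) = Nat.card ↥((P : Subgroup W) ⊔ C') := by
      rw [← h1, ← relIndex_sup_right (H := (P : Subgroup W)) (K := C'), ← relIndex_bot_left C',
        relIndex_mul_relIndex _ _ _ bot_le le_sup_right, relIndex_bot_left]
    have h3 : Nat.card C' * Nat.card (P : Subgroup W) ∣ (P : Subgroup W).index * Nat.card (P : Subgroup W) := by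
      rw [h2, index_mul_card]
      exact card_subgroup_dvd_card _
    rw [Nat.mul_dvd_mul_iff_right Nat.card_pos, Nat.card_congr (subgroupOfEquivOfLe le_normalizer).toEquiv] at h3
    exact P.not_dvd_index (hd.trans h3)
  obtain ⟨z, hz, hzc, hzo⟩ := Cfsg.Agent.PGroup.exists_orderOf_eq_mem_center P.isPGroup' _ hne
  refine ⟨((z : W) : G), hz, fun q hq => ?_, ?_⟩
  · have hq' : (⟨q, hQC hq⟩ : W) ∈ (P : Subgroup W) := hP hq
    exact congrArg (fun t : (P : Subgroup W) => ((t : W) : G)) (mem_center_iff.mp hzc ⟨_, hq'⟩)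
  · rw [Subgroup.orderOf_coe, Subgroup.orderOf_coe, hzo]

end Cfsg.Agent.Components
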