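import Cfsg.Agent.Lib.Components.Subnormal
import Cfsg.Prelude.Def_CaseTheorems

/-!
Quasisimple groups (`Cfsg.IsQuasisimple`): proper normal and subnormal subgroups are central,
criteria, transport along surjections, and the forms for a subgroup of an ambient group.
-/

namespace Cfsg.Agent.Components

open Subgroup
open scoped commutatorElement

variable {G G' : Type*} [Group G] [Group G']

theorem IsQuasisimple.isPerfect (h : IsQuasisimple G) : Group.IsPerfect G := h.1

theorem IsQuasisimple.simpleQuotient (h : IsQuasisimple G) : IsSimpleGroup (G ⧸ center G) := h.2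

theorem IsQuasisimple.center_ne_top (h : IsQuasisimple G) : center G ≠ ⊤ := fun hc =>
  QuotientGroup.nontrivial_iff.mp h.2.toNontrivial hc

theorem IsQuasisimple.nontrivial (h : IsQuasisimple G) : Nontrivial G := by
  by_contra hn
  rw [not_nontrivial_iff_subsingleton] at hn
  exact IsQuasisimple.center_ne_top h (Subsingleton.elim _ _)

theorem IsQuasisimple.not_isSolvable (h : IsQuasisimple G) : ¬ Group.IsSolvable G := by
  have := h.1
  have := IsQuasisimple.nontrivial h
  exact Group.IsPerfect.not_isSolvable G

theorem IsQuasisimple.not_isMulCommutative (h : IsQuasisimple G) : ¬ IsMulCommutative G := by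
  have := h.1
  have := IsQuasisimple.nontrivial h
  exact Group.IsPerfect.not_isMulCommutative G

/-- A proper normal subgroup of a quasisimple group is central. -/
theorem IsQuasisimple.normal_eq_top_or_le_center (h : IsQuasisimple G) (M : Subgroup G)
    [hM : M.Normal] : M = ⊤ ∨ M ≤ center G := by
  have := h.2
  have := h.1
  have hq : (M.map (QuotientGroup.mk' (center G))).Normal :=
    hM.map _ (QuotientGroup.mk'_surjective _)
  rcases hq.eq_bot_or_eq_top with hb | ht
  · exact Or.inr (by rwa [Subgroup.map_eq_bot_iff, QuotientGroup.ker_mk'] at hb)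
  · left
    have hsup : M ⊔ center G = ⊤ := by
      rw [← QuotientGroup.ker_mk' (center G), ← comap_map_eq, ht, comap_top]
    have := Normal.commutator_le_of_self_sup_commutative_eq_top (N := M) hsup inferInstance
    rwa [Group.IsPerfect.commutator_eq_top, top_le_iff] at this

/-- A proper subnormal subgroup of a quasisimple group is central. -/
theorem IsQuasisimple.subnormal_eq_top_or_le_center (h : IsQuasisimple G) {M : Subgroup G}
    (hM : M.IsSubnormal) : M = ⊤ ∨ M ≤ center G := by
  rcases hM.lt_normal with ht | ⟨K, hK, hle, hlt⟩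
  · exact Or.inl ht
  · exact Or.inr (hle.trans ((IsQuasisimple.normal_eq_top_or_le_center h K).resolve_left hlt.ne))

/-- A nontrivial perfect group all of whose proper normal subgroups are central is quasisimple. -/
theorem isQuasisimple_of_normal_central [Nontrivial G] [Group.IsPerfect G]
    (h : ∀ M : Subgroup G, M.Normal → M = ⊤ ∨ M ≤ center G) : IsQuasisimple G := by
  refine ⟨inferInstance, ?_⟩
  have hne : center G ≠ ⊤ := fun hc =>
    Group.IsPerfect.not_isMulCommutative G (by
      rw [← commutator_eq_bot_iff_center_eq_top] at hc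
      simp at hc)
  have : Nontrivial (G ⧸ center G) := QuotientGroup.nontrivial_iff.mpr hne
  refine ⟨fun M hM => ?_⟩
  rcases h (M.comap (QuotientGroup.mk' (center G))) (hM.comap _) with ht | hc
  · right
    rw [← map_comap_eq_self_of_surjective (QuotientGroup.mk'_surjective (center G)) M, ht,
      map_top_of_surjective _ (QuotientGroup.mk'_surjective _)]
  · left
    rw [← map_comap_eq_self_of_surjective (QuotientGroup.mk'_surjective (center G)) M,
      Subgroup.map_eq_bot_iff, QuotientGroup.ker_mk']
    exact hc

/-- A nontrivial homomorphic image of a quasisimple group is quasisimple. -/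
theorem IsQuasisimple.of_surjective [Nontrivial G'] (h : IsQuasisimple G) (f : G →* G')
    (hf : Function.Surjective f) : IsQuasisimple G' := by
  have := h.1
  have : Group.IsPerfect G' := Group.IsPerfect.ofSurjective hf
  refine isQuasisimple_of_normal_central fun M hM => ?_
  rcases IsQuasisimple.normal_eq_top_or_le_center h (M.comap f) (hM := hM.comap f) with ht | hc
  · left
    rw [← map_comap_eq_self_of_surjective hf M, ht, map_top_of_surjective _ hf]
  · right
    rw [← map_comap_eq_self_of_surjective hf M]
    refine (map_mono hc).trans ?_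
    rintro _ ⟨z, hz, rfl⟩
    rw [mem_center_iff]
    intro y
    obtain ⟨x, rfl⟩ := hf y
    rw [← map_mul, ← map_mul, mem_center_iff.mp hz x]

theorem isQuasisimple_congr (e : G ≃* G') : IsQuasisimple G ↔ IsQuasisimple G' := by
  constructor <;> intro h
  · have := IsQuasisimple.nontrivial h
    have : Nontrivial G' := e.symm.toEquiv.nontrivial
    exact IsQuasisimple.of_surjective h e.toMonoidHom e.surjective
  · have := IsQuasisimple.nontrivial h
    have : Nontrivial G := e.toEquiv.nontrivial
    exact IsQuasisimple.of_surjective h e.symm.toMonoidHom e.symm.surjective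

/-- A nonabelian simple group is quasisimple. -/
theorem isQuasisimple_of_isSimpleGroup [IsSimpleGroup G] (h : ¬ IsMulCommutative G) :
    IsQuasisimple G := by
  have hp : Group.IsPerfect G := ⟨by
    rcases (inferInstance : (commutator G).Normal).eq_bot_or_eq_top with hb | ht
    · exact absurd ((commutator_self_eq_bot_iff (H := (⊤ : Subgroup G))).mp hb)
        (fun hc => h ⟨⟨fun a b => congrArg Subtype.val
          (hc.is_comm.comm (⟨a, mem_top a⟩ : (⊤ : Subgroup G)) ⟨b, mem_top b⟩)⟩⟩)
    · exact ht⟩
  refine isQuasisimple_of_normal_central fun M hM => ?_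
  rcases hM.eq_bot_or_eq_top with rfl | rfl
  · exact Or.inr bot_le
  · exact Or.inl rfl

/-! ### Quasisimple subgroups -/

theorem IsQuasisimple.ne_bot {K : Subgroup G} (h : IsQuasisimple K) : K ≠ ⊥ := by
  have := IsQuasisimple.nontrivial h
  exact (nontrivial_iff_ne_bot K).mp this

theorem IsQuasisimple.commutator_self {K : Subgroup G} (h : IsQuasisimple K) : ⁅K, K⁆ = K :=
  isPerfect_iff.mp h.1

/-- A subgroup of a quasisimple subgroup `K` that is subnormal in `K` is `K` or centralises `K`. -/
theorem IsQuasisimple.eq_or_commutator_eq_bot_of_subnormal {K M : Subgroup G}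
    (h : IsQuasisimple K) (hle : M ≤ K) (hM : (M.subgroupOf K).IsSubnormal) :
    M = K ∨ ⁅K, M⁆ = ⊥ := by
  rcases IsQuasisimple.subnormal_eq_top_or_le_center h hM with ht | hc
  · exact Or.inl (le_antisymm hle (subgroupOf_eq_top.mp ht))
  · right
    rw [← commutator_top_left_eq_bot_iff_le_center] at hc
    have := congrArg (map K.subtype) hc
    rwa [map_commutator, Subgroup.map_bot, ← MonoidHom.range_eq_map, range_subtype,
      map_subgroupOf_eq_of_le hle] at this

/-- A subgroup of a quasisimple subgroup `K` normalised by `K` is `K` or centralises `K`. -/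
theorem IsQuasisimple.eq_or_commutator_eq_bot {K M : Subgroup G}
    (h : IsQuasisimple K) (hle : M ≤ K) (hM : K ≤ normalizer (M : Set G)) :
    M = K ∨ ⁅K, M⁆ = ⊥ :=
  IsQuasisimple.eq_or_commutator_eq_bot_of_subnormal h hle
    (normal_subgroupOf_of_le_normalizer hM).isSubnormal

theorem IsQuasisimple.map_injective {K : Subgroup G} (h : IsQuasisimple K) {f : G →* G'}
    (hf : Function.Injective f) : IsQuasisimple (K.map f) :=
  (isQuasisimple_congr (K.equivMapOfInjective f hf)).mp h

theorem IsQuasisimple.map_of_ne_bot {K : Subgroup G} (h : IsQuasisimple K) {f : G →* G'}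
    (hne : K.map f ≠ ⊥) : IsQuasisimple (K.map f) := by
  have := (nontrivial_iff_ne_bot _).mpr hne
  exact IsQuasisimple.of_surjective h (f.subgroupMap K) (f.subgroupMap_surjective K)

theorem IsQuasisimple.subgroupOf_of_le {K H : Subgroup G} (h : IsQuasisimple K) (hle : K ≤ H) :
    IsQuasisimple (K.subgroupOf H) :=
  (isQuasisimple_congr (subgroupOfEquivOfLe hle)).mpr h

end Cfsg.Agent.Components

namespace Cfsg.Agent.Components

open Subgroup
open scoped commutatorElement

variable {G : Type*} [Group G]

/-- If `G / Z(G)` is nonabelian simple then `G' Z(G) = G` and `G'` is quasisimple. -/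
theorem isQuasisimple_commutator_of_simple_quotient
    (hs : IsSimpleGroup (G ⧸ center G)) (hna : ¬ IsMulCommutative (G ⧸ center G)) :
    commutator G ⊔ center G = ⊤ ∧ IsQuasisimple (commutator G) := by
  let q := QuotientGroup.mk' (center G)
  have hq : Function.Surjective q := QuotientGroup.mk'_surjective _
  have hsimple : ∀ M : Subgroup G, M.Normal → M ≤ center G ∨ M ⊔ center G = ⊤ := fun M hM => by
    rcases (hM.map q hq).eq_bot_or_eq_top with h | h
    · exact Or.inl (by rwa [Subgroup.map_eq_bot_iff, QuotientGroup.ker_mk'] at h)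
    · right; rw [← QuotientGroup.ker_mk' (center G), ← comap_map_eq, h, comap_top]
  have hnc : ¬ commutator G ≤ center G := fun h =>
    hna (Subgroup.Normal.quotient_commutative_iff_commutator_le.mpr h)
  have htop : commutator G ⊔ center G = ⊤ := (hsimple _ inferInstance).resolve_left hnc
  have key : ∀ M : Subgroup G, M ⊔ center G = ⊤ → commutator G ≤ ⁅M, M⁆ := by
    intro M hM
    refine commutator_le.mpr fun a _ b _ => ?_
    obtain ⟨m, hm, z, hz, rfl⟩ := mem_sup_of_normal_right.mp (hM ▸ mem_top a)
    obtain ⟨n, hn, w, hw, rfl⟩ := mem_sup_of_normal_right.mp (hM ▸ mem_top b)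
    have hz' := mem_center_iff.mp hz
    have hw' := mem_center_iff.mp hw
    have : ⁅m * z, n * w⁆ = ⁅m, n⁆ := by
      have e1 : ⁅z, n * w⁆ = 1 := commutatorElement_eq_one_iff_mul_comm.mpr (hz' (n * w)).symm
      have e2 : ⁅m, w⁆ = 1 := commutatorElement_eq_one_iff_mul_comm.mpr (hw' m)
      rw [commutatorElement_mul_left_eq_conj_mul, e1, commutatorElement_mul_right_eq_mul_conj, e2]
      group
    rw [this]
    exact commutator_mem_commutator hm hn
  refine ⟨htop, ?_⟩
  have hperf : Group.IsPerfect (commutator G) :=
    isPerfect_iff.mpr (le_antisymm (commutator_le_self _) (key _ htop))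
  have hne : commutator G ≠ ⊥ := fun h => hnc (h ▸ bot_le)
  have := (nontrivial_iff_ne_bot _).mpr hne
  refine isQuasisimple_of_normal_central fun M hM => ?_
  have hN : (M.map (commutator G).subtype).Normal := by
    rw [← normalizer_eq_top_iff, eq_top_iff]
    refine htop.ge.trans (sup_le ?_ ((center_le_centralizer _).trans (centralizer_le_normalizer _)))
    refine le_trans ?_ (M.le_normalizer_map (commutator G).subtype)
    rw [normalizer_eq_top, ← MonoidHom.range_eq_map, range_subtype]
  rcases hsimple _ hN with h | h
  · right
    intro x hx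
    exact mem_center_iff.mpr fun y => Subtype.ext (mem_center_iff.mp (h ⟨x, hx, rfl⟩) y)
  · left
    rw [← map_subtype_inj, ← MonoidHom.range_eq_map, range_subtype]
    exact le_antisymm (map_subtype_le M) ((key _ h).trans (commutator_le_self _))

end Cfsg.Agent.Components
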